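import Mathlib

set_option autoImplicit false

/-! Derangements of prime order. -/

namespace Cfsg.Agent.H7.Derange

open MulAction

variable {G Ω : Type*} [Group G] [Finite G] [MulAction G Ω] [Fintype Ω]

theorem dvd_orbit [IsPretransitive G Ω] {p k : ℕ} [Fact p.Prime] (P : Sylow p G) (h : p ^ k ∣ Fintype.card Ω) (ω : Ω) :
    p ^ k ∣ (stabilizer (P : Subgroup G) ω).index := by
  have h1 : (stabilizer (P : Subgroup G) ω).index = (stabilizer G ω).relIndex (P : Subgroup G) := by
    rw [Subgroup.relIndex]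
    congr 1
  have h2 : (stabilizer G ω ⊓ P).relIndex (P : Subgroup G) * (P : Subgroup G).index = (stabilizer G ω ⊓ P).index :=
    Subgroup.relIndex_mul_index inf_le_right
  rw [Subgroup.inf_relIndex_right, ← h1] at h2
  have h3 : (stabilizer G ω).index ∣ (stabilizer G ω ⊓ P).index := Subgroup.index_dvd_of_le inf_le_left
  rw [index_stabilizer_of_transitive, Nat.card_eq_fintype_card, ← h2] at h3
  have h4 : Nat.Coprime (p ^ k) (P : Subgroup G).index := by
    apply Nat.Coprime.pow_left
    rw [Nat.Prime.coprime_iff_not_dvd Fact.out]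
    exact P.not_dvd_index
  exact h4.dvd_of_dvd_mul_right (h.trans h3)

theorem prime_power [FaithfulSMul G Ω] [IsPretransitive G Ω] {p k : ℕ} (hp : p.Prime) (hk : 1 ≤ k)
    (hΩ : Fintype.card Ω = p ^ k) : ∃ g : G, orderOf g = p ∧ ∀ ω : Ω, g • ω ≠ ω := by
  classical
  haveI : Fact p.Prime := ⟨hp⟩
  obtain ⟨P⟩ : Nonempty (Sylow p G) := inferInstance
  obtain ⟨ω₀⟩ : Nonempty Ω := Fintype.card_pos_iff.1 (by rw [hΩ]; exact pow_pos hp.pos k)
  have h1 := dvd_orbit (k := k) P (by rw [hΩ]) ω₀
  have h2 : orbit (P : Subgroup G) ω₀ = Set.univ := by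
    apply Set.eq_of_subset_of_ncard_le (Set.subset_univ _) _ (Set.toFinite _)
    rw [← index_stabilizer, Set.ncard_univ, Nat.card_eq_fintype_card, hΩ]
    exact Nat.le_of_dvd (Nat.pos_of_ne_zero Subgroup.index_ne_zero_of_finite) h1
  have hnt : Nontrivial (P : Subgroup G) := by
    by_contra hcon
    rw [not_nontrivial_iff_subsingleton] at hcon
    have h3 : (stabilizer (P : Subgroup G) ω₀).index ∣ Nat.card (P : Subgroup G) := Subgroup.index_dvd_card _
    have h4 : Nat.card (P : Subgroup G) = 1 := Nat.card_of_subsingleton 1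
    have h5 := Nat.le_of_dvd (by omega) (h1.trans h3)
    have h6 : p ≤ p ^ k := Nat.le_self_pow (by omega) p
    have := hp.two_le
    omega
  haveI := P.2.center_nontrivial
  have h3 : p ∣ Nat.card (Subgroup.center (P : Subgroup G)) := by
    obtain ⟨n, hn⟩ := (P.2.to_subgroup (Subgroup.center (P : Subgroup G))).exists_card_eq
    rw [hn]
    apply dvd_pow_self
    rintro rfl
    rw [pow_zero] at hn
    have := Finite.one_lt_card (α := Subgroup.center (P : Subgroup G))
    omega
  obtain ⟨z, hz⟩ := exists_prime_orderOf_dvd_card' p h3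
  refine ⟨((z : (P : Subgroup G)) : G), ?_, fun ω hω => ?_⟩
  · rw [Subgroup.orderOf_coe, Subgroup.orderOf_coe, hz]
  · have h4 : ((z : (P : Subgroup G)) : G) = 1 := by
      apply FaithfulSMul.eq_of_smul_eq_smul (α := Ω)
      intro ω'
      have h5 : ω ∈ orbit (P : Subgroup G) ω₀ := by rw [h2]; trivial
      have h6 : ω' ∈ orbit (P : Subgroup G) ω₀ := by rw [h2]; trivial
      rw [← orbit_eq_iff.2 h5] at h6
      obtain ⟨x, hx⟩ := h6
      have h7 : x * (z : (P : Subgroup G)) = z * x := Subgroup.mem_center_iff.1 z.2 x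
      have h8 : ((z : (P : Subgroup G)) : G) * (x : G) = (x : G) * ((z : (P : Subgroup G)) : G) :=
        (congrArg Subtype.val h7).symm
      have hx' : (x : G) • ω = ω' := hx
      rw [one_smul, ← hx', ← mul_smul, h8, mul_smul, hω]
    have h5 : orderOf z = 1 := by
      rw [orderOf_eq_one_iff]
      exact Subtype.ext (Subtype.ext h4)
    rw [hz] at h5
    exact hp.one_lt.ne' h5

theorem small_multiple [FaithfulSMul G Ω] [IsPretransitive G Ω] {p m : ℕ} (hp : p.Prime) (hm : 1 ≤ m) (hmp : m < p)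
    (hΩ : Fintype.card Ω = m * p) : ∃ g : G, orderOf g = p ∧ ∀ ω : Ω, g • ω ≠ ω := by
  classical
  haveI : Fact p.Prime := ⟨hp⟩
  obtain ⟨P⟩ : Nonempty (Sylow p G) := inferInstance
  haveI : Fintype (P : Subgroup G) := Fintype.ofFinite _
  obtain ⟨n, hn⟩ := P.2.exists_card_eq
  -- the index of the stabilisers is `p`
  have hidx : ∀ ω : Ω, (stabilizer (P : Subgroup G) ω).index = p := by
    intro ω
    have h1 := dvd_orbit (k := 1) P (by rw [hΩ, pow_one]; exact Dvd.intro_left _ rfl) ω
    rw [pow_one] at h1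
    have h2 : (stabilizer (P : Subgroup G) ω).index ∣ p ^ n := by
      rw [← hn]
      exact Subgroup.index_dvd_card _
    obtain ⟨j, hj, hj'⟩ := (Nat.dvd_prime_pow hp).1 h2
    have h3 : (stabilizer (P : Subgroup G) ω).index ≤ m * p := by
      rw [index_stabilizer, ← hΩ, ← Nat.card_eq_fintype_card]
      exact Set.ncard_le_card _
    rw [hj'] at h1 h3 ⊢
    have h4 : j = 1 := by
      have h5 : j ≠ 0 := by
        rintro rfl
        rw [pow_zero] at h1
        exact hp.one_lt.ne' (Nat.dvd_one.1 h1)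
      by_contra h6
      have h7 : p ^ 2 ≤ p ^ j := Nat.pow_le_pow_right hp.pos (by omega)
      have h8 : m * p < p * p := Nat.mul_lt_mul_of_pos_right hmp hp.pos
      rw [sq] at h7
      omega
    rw [h4, pow_one]
  have hn0 : n ≠ 0 := by
    rintro rfl
    obtain ⟨ω₀⟩ : Nonempty Ω := Fintype.card_pos_iff.1 (by rw [hΩ]; exact Nat.mul_pos hm hp.pos)
    have h1 : (stabilizer (P : Subgroup G) ω₀).index ∣ Nat.card (P : Subgroup G) := Subgroup.index_dvd_card _
    rw [hidx, hn, pow_zero] at h1
    exact hp.one_lt.ne' (Nat.dvd_one.1 h1)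
  have hnormal : ∀ ω : Ω, (stabilizer (P : Subgroup G) ω).Normal := by
    intro ω
    apply Subgroup.normal_of_index_eq_minFac_card
    rw [hidx, hn, Nat.Prime.pow_minFac hp hn0]
  -- an element without fixed points
  obtain ⟨x, hx⟩ : ∃ x : (P : Subgroup G), ∀ ω : Ω, x • ω ≠ ω := by
    by_contra hcon
    push Not at hcon
    have h1 : ∑ x : (P : Subgroup G), ∑ ω : Ω, (if x • ω = ω then 1 else 0) = ∑ ω : Ω, ∑ x : (P : Subgroup G), (if x • ω = ω then 1 else 0) :=
      Finset.sum_comm
    have h2 : ∀ ω : Ω, ∑ x : (P : Subgroup G), (if x • ω = ω then 1 else 0) = Nat.card (stabilizer (P : Subgroup G) ω) := by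
      intro ω
      rw [Finset.sum_boole, Nat.cast_id, Nat.card_eq_fintype_card, Fintype.card_subtype]
      rfl
    have h3 : ∀ ω : Ω, Nat.card (stabilizer (P : Subgroup G) ω) * p = Nat.card (P : Subgroup G) := by
      intro ω
      have h := Subgroup.card_mul_index (stabilizer (P : Subgroup G) ω)
      rwa [hidx ω] at h
    have h4 : ∀ x : (P : Subgroup G), p ≤ ∑ ω : Ω, (if x • ω = ω then 1 else 0) := by
      intro x
      obtain ⟨ω, hω⟩ := hcon x
      rw [Finset.sum_boole, Nat.cast_id]
      have h5 : (orbit (P : Subgroup G) ω).ncard = p := by rw [← index_stabilizer, hidx]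
      refine h5.symm.le.trans ?_
      rw [← Set.ncard_coe_finset]
      apply Set.ncard_le_ncard _ (Set.toFinite _)
      rintro ω' ⟨y, rfl⟩
      rw [Finset.mem_coe, Finset.mem_filter]
      refine ⟨Finset.mem_univ _, ?_⟩
      have h6 := (hnormal ω).conj_mem x hω y⁻¹
      rw [inv_inv, mem_stabilizer_iff] at h6
      change x • y • ω = y • ω
      have h7 : x • y • ω = y • ((y⁻¹ * x * y) • ω) := by
        rw [smul_smul, smul_smul]
        congr 1
        group
      rw [h7, h6]
    have h5 : Nat.card (P : Subgroup G) * p ≤ ∑ x : (P : Subgroup G), ∑ ω : Ω, (if x • ω = ω then 1 else 0) := by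
      have := Finset.card_nsmul_le_sum (Finset.univ : Finset (P : Subgroup G)) _ p (fun x _ => h4 x)
      rw [smul_eq_mul, Finset.card_univ, ← Nat.card_eq_fintype_card] at this
      exact this
    rw [h1, Finset.sum_congr rfl (fun ω _ => h2 ω)] at h5
    have h6 : (∑ ω : Ω, Nat.card (stabilizer (P : Subgroup G) ω)) * p = m * p * Nat.card (P : Subgroup G) := by
      rw [Finset.sum_mul, Finset.sum_congr rfl (fun ω _ => h3 ω), Finset.sum_const, Finset.card_univ, hΩ, smul_eq_mul]
    have h7 : 0 < Nat.card (P : Subgroup G) := Nat.card_pos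
    have h8 : Nat.card (P : Subgroup G) * p * p ≤ m * p * Nat.card (P : Subgroup G) := by
      rw [← h6]
      exact Nat.mul_le_mul_right p h5
    have h9 : p * (p * Nat.card (P : Subgroup G)) ≤ m * (p * Nat.card (P : Subgroup G)) := by
      calc p * (p * Nat.card (P : Subgroup G)) = Nat.card (P : Subgroup G) * p * p := by ring
        _ ≤ m * p * Nat.card (P : Subgroup G) := h8
        _ = _ := by ring
    have h10 := Nat.le_of_mul_le_mul_right h9 (Nat.mul_pos hp.pos h7)
    omega
  refine ⟨(x : G), ?_, hx⟩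
  rw [Subgroup.orderOf_coe]
  apply orderOf_eq_prime
  · have h1 : ∀ ω : Ω, x ^ p ∈ stabilizer (P : Subgroup G) ω := by
      intro ω
      haveI := hnormal ω
      have h2 := Subgroup.pow_index_mem (stabilizer (P : Subgroup G) ω) x
      rwa [hidx ω] at h2
    apply Subtype.ext
    apply FaithfulSMul.eq_of_smul_eq_smul (α := Ω)
    intro ω
    rw [Subgroup.coe_one, one_smul]
    exact h1 ω
  · rintro rfl
    obtain ⟨ω₀⟩ : Nonempty Ω := Fintype.card_pos_iff.1 (by rw [hΩ]; exact Nat.mul_pos hm hp.pos)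
    exact hx ω₀ (one_smul _ _)

end Cfsg.Agent.H7.Derange
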