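import Cfsg.Agent.H7.SUGen
import Cfsg.Agent.H7.Herm

set_option autoImplicit false

/-! The standard Hermitian form and `GU`. -/

namespace Cfsg.Agent.H7.UTv

open Module Matrix Cfsg Cfsg.Agent.H7.Tv Cfsg.Agent.H7.Witt Cfsg.Agent.H7.Herm

variable {F : Type*} [Field F] [Fintype F] {q : ℕ}

theorem hm_std (hF : Fintype.card F = q ^ 2) (n : ℕ) : ∃ σ : F →+* F, (∀ x, σ x = x ^ q) ∧ Hm (hB n σ) ∧
    (∀ u v, hB n σ u v = hermForm n F q v u) ∧
    (∀ g : GL (Fin n) F, g ∈ GU n F q ↔ Isom (hB n σ) g) := by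
  obtain ⟨σ, h1, h2, h3⟩ := exists_frob hF
  refine ⟨σ, h1, ⟨h3, h2, fun x y => hB_symm h2 x y, fun v hv => hB_nd v hv⟩, fun u v => hB_eq h1 u v, fun g => ?_⟩
  constructor
  · intro h u v
    rw [hB_eq h1, hB_eq h1]
    exact h v u
  · intro h u v
    have := h v u
    rw [hB_eq h1, hB_eq h1] at this
    exact this

/-- a group containing all the unitary transvections contains `SU` -/
theorem su_le {ι : Type} [Fintype ι] [DecidableEq ι] {F : Type*} [Field F] [Finite F] {σ : F →+* F}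
    {B : (ι → F) →ₛₗ[σ] (ι → F) →ₗ[F] F} (hB : Hm B) (hn : 4 ≤ Fintype.card ι) {M : Subgroup (GL ι F)}
    (hM : ∀ u, B u u = 0 → UC B M u) {g : GL ι F} (hg : Isom B g) (hS : g ∈ Geo.specialLinear ι F) : g ∈ M := by
  have h1 : Nd B ⊤ := fun x _ h => hB.nd' x (fun y => h y Submodule.mem_top)
  have h2 : g ∈ TC B ⊤ := by
    refine gen hB _ ⊤ rfl h1 ?_ g ⟨hg, fun z hz => ?_⟩ hS
    · right
      rw [finrank_top, finrank_fintype_fun_eq_card]
      exact hn
    · have h3 : z = 0 := hB.nd' z (fun y => hz y Submodule.mem_top)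
      rw [h3, ap_zero]
  exact (TC_le_iff.2 (fun u _ hu => hM u hu)) h2

theorem UC.smul {ι : Type} [Fintype ι] [DecidableEq ι] {F : Type*} [Field F] {σ : F →+* F}
    {B : (ι → F) →ₛₗ[σ] (ι → F) →ₗ[F] F} (hσ : ∀ a, σ (σ a) = a) {M : Subgroup (GL ι F)} {u : ι → F} (h : UC B M u) (a : F) :
    UC B M (a • u) := by
  intro c hc
  rw [In.smul_iff, LinearMap.map_smulₛₗ, smul_smul, smul_smul]
  apply h
  rw [map_mul, map_mul, hσ]
  linear_combination (a * σ a) * hc

end Cfsg.Agent.H7.UTv
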