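import Cfsg.Agent.H7.UTv

set_option autoImplicit false

/-! Generation of special unitary groups by transvections. -/

namespace Cfsg.Agent.H7.UTv

open Module Matrix Cfsg Cfsg.Agent.H7.Tv Cfsg.Agent.H7.Witt

variable {ι : Type} [Fintype ι] [DecidableEq ι] {F : Type*} [Field F] [Finite F]
variable {σ : F →+* F} {B : (ι → F) →ₛₗ[σ] (ι → F) →ₗ[F] F}

/-- nondegenerate subspaces -/
def Nd (B : (ι → F) →ₛₗ[σ] (ι → F) →ₗ[F] F) (C : Submodule F (ι → F)) : Prop :=
  ∀ x ∈ C, (∀ y ∈ C, B y x = 0) → x = 0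

theorem nd_compl (hB : Hm B) {C : Submodule F (ι → F)} (hC : Nd B C) : IsCompl C (prp B C) := by
  have h1 : Disjoint C (prp B C) := by
    rw [Submodule.disjoint_def]
    intro x hx hx'
    exact hC x hx hx'
  refine ⟨h1, ?_⟩
  rw [codisjoint_iff]
  apply Submodule.eq_top_of_finrank_eq
  have h2 := Submodule.finrank_sup_add_finrank_inf_eq C (prp B C)
  rw [disjoint_iff.1 h1, finrank_bot, add_zero, hB.finrank_prp'] at h2
  rw [h2, finrank_fintype_fun_eq_card]

theorem nd_proj (hB : Hm B) {C : Submodule F (ι → F)} (hC : Nd B C) (v : ι → F) :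
    ∃ w ∈ C, ∀ y ∈ C, B y v = B y w := by
  have h1 : v ∈ C ⊔ prp B C := by rw [(nd_compl hB hC).sup_eq_top]; exact Submodule.mem_top
  obtain ⟨w, hw, z, hz, rfl⟩ := Submodule.mem_sup.1 h1
  exact ⟨w, hw, fun y hy => by rw [map_add, hz y hy, add_zero]⟩

theorem finrank_inf_prp (hB : Hm B) {C : Submodule F (ι → F)} (hC : Nd B C) {U : Submodule F (ι → F)} (hU : U ≤ C) :
    finrank F U + finrank F (C ⊓ prp B U : Submodule F (ι → F)) = finrank F C := by
  have h1 : C ⊔ prp B U = ⊤ := by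
    rw [eq_top_iff, ← (nd_compl hB hC).sup_eq_top]
    exact sup_le_sup_left (fun z hz w hw => hz w (hU hw)) C
  have h2 := Submodule.finrank_sup_add_finrank_inf_eq C (prp B U)
  have h3 := hB.finrank_prp' U
  rw [h1, finrank_top, finrank_fintype_fun_eq_card] at h2
  omega

theorem exists_aniso_in (hB : Hm B) {C : Submodule F (ι → F)} (hC : Nd B C) {U : Submodule F (ι → F)} (hU : U ≤ C)
    (h : finrank F C < 2 * finrank F U) : ∃ a ∈ U, B a a ≠ 0 := by
  by_contra hcon
  push Not at hcon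
  have h1 := Cfsg.Agent.H7.FormBasis.herm_iso_zero hB.ne hB.symm U hcon
  have h2 : U ≤ C ⊓ prp B U := le_inf hU (fun x hx w hw => h1 w hw x hx)
  have h3 := Submodule.finrank_mono h2
  have h4 := finrank_inf_prp hB hC hU
  omega

theorem nd_inf (hB : Hm B) {C U : Submodule F (ι → F)} (hC : Nd B C) (hUC : U ≤ C) (hU : Nd B U) : Nd B (C ⊓ prp B U) := by
  intro x hx hx'
  apply hC x hx.1
  intro y hy
  obtain ⟨w, hw, hyw⟩ := nd_proj hB hU y
  have h1 : y - w ∈ C ⊓ prp B U := by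
    refine ⟨C.sub_mem hy (hUC hw), fun u hu => ?_⟩
    rw [map_sub, hyw u hu, sub_self]
  have h2 := hx' _ h1
  rw [map_sub, LinearMap.sub_apply, hx.2 w hw, sub_zero] at h2
  exact h2

theorem nd_span_one (hB : Hm B) {a : ι → F} (ha : B a a ≠ 0) : Nd B (Submodule.span F {a}) := by
  intro x hx hx'
  obtain ⟨c, rfl⟩ := Submodule.mem_span_singleton.1 hx
  have h1 := hx' a (Submodule.mem_span_singleton_self a)
  rw [map_smul, smul_eq_mul] at h1
  rw [(mul_eq_zero.1 h1).resolve_right ha, zero_smul]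

theorem nd_span_two (hB : Hm B) {e f : ι → F} (he : B e e = 0) (hf : B f f = 0) (hef : B e f = 1) :
    Nd B (Submodule.span F {e, f}) := by
  intro x hx hx'
  obtain ⟨a, b, rfl⟩ := Submodule.mem_span_pair.1 hx
  have hfe : B f e = 1 := by rw [← hB.symm, hef, map_one]
  have h1 := hx' e (Submodule.subset_span (Set.mem_insert _ _))
  have h2 := hx' f (Submodule.subset_span (Set.mem_insert_of_mem _ rfl))
  simp only [map_add, map_smul, smul_eq_mul, he, hf, hef, hfe, mul_zero, zero_add, add_zero, mul_one] at h1 h2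
  rw [h1, h2, zero_smul, zero_smul, add_zero]

theorem finrank_span_hyp (hB : Hm B) {e f : ι → F} (he : B e e = 0) (hf : B f f = 0) (hef : B e f = 1) :
    finrank F (Submodule.span F {e, f}) = 2 := by
  have hfe : B f e = 1 := by rw [← hB.symm, hef, map_one]
  have hli : LinearIndependent F ![e, f] := by
    rw [LinearIndependent.pair_iff]
    intro a b hab
    have h1 := congrArg (B e) hab
    have h2 := congrArg (B f) hab
    simp only [map_add, map_smul, smul_eq_mul, he, hf, hef, hfe, mul_zero, zero_add, add_zero, mul_one, map_zero] at h1 h2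
    exact ⟨h2, h1⟩
  have h1 := finrank_span_eq_card hli
  rw [Fintype.card_fin] at h1
  have h2 : Set.range ![e, f] = {e, f} := by
    ext x
    simp only [Matrix.range_cons, Matrix.range_empty, Set.union_empty, Set.mem_union, Set.mem_singleton_iff,
      Set.mem_insert_iff]
  rw [h2] at h1
  exact h1

/-- the trace is onto -/
theorem Hm.exists_tr (hB : Hm B) (c : F) (hc : σ c = c) : ∃ t, t + σ t = c := by
  obtain ⟨e, he⟩ : ∃ e, e + σ e ≠ 0 := by
    by_contra hcon
    push Not at hcon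
    apply hB.ne
    ext a
    have h1 := hcon 1
    have h2 := hcon a
    rw [map_one] at h1
    rw [RingHom.id_apply]
    linear_combination h2 - a * h1
  refine ⟨c * (e + σ e)⁻¹ * e, ?_⟩
  rw [map_mul, map_mul, hc, map_inv₀, map_add, hB.inv, add_comm (σ e) e, ← mul_add, mul_assoc, inv_mul_cancel₀ he, mul_one]

theorem Hm.self_fixed (hB : Hm B) (x : ι → F) : σ (B x x) = B x x := hB.symm x x

theorem iso_shift (hB : Hm B) {s₀ : ι → F} (hs : B s₀ s₀ ≠ 0) (w₀ : ι → F) : ∃ t : F, B (w₀ + t • s₀) (w₀ + t • s₀) = 0 := by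
  obtain ⟨b, hb⟩ : ∃ b, b = B w₀ s₀ := ⟨_, rfl⟩
  obtain ⟨β, hβ⟩ : ∃ β, β = B s₀ s₀ := ⟨_, rfl⟩
  obtain ⟨γ, hγ⟩ : ∃ γ, γ = B w₀ w₀ := ⟨_, rfl⟩
  have hβσ : σ β = β := by rw [hβ, hB.self_fixed]
  have hγσ : σ γ = γ := by rw [hγ, hB.self_fixed]
  have hβ0 : β ≠ 0 := by rw [hβ]; exact hs
  obtain ⟨r, hr⟩ := hB.norm ((b * σ b * β⁻¹ - γ) * β⁻¹) (by
    rw [map_mul, map_sub, map_mul, map_mul, map_inv₀, hβσ, hγσ, hB.inv, mul_comm (σ b) b])
  refine ⟨r - σ b * β⁻¹, ?_⟩
  have hexp : B (w₀ + (r - σ b * β⁻¹) • s₀) (w₀ + (r - σ b * β⁻¹) • s₀) =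
      γ + (r - σ b * β⁻¹) * b + σ (r - σ b * β⁻¹) * σ b + (r - σ b * β⁻¹) * σ (r - σ b * β⁻¹) * β := by
    simp only [map_add, LinearMap.add_apply, map_smul, LinearMap.map_smulₛₗ, LinearMap.smul_apply, smul_eq_mul, ← hβ, ← hγ,
      ← hb]
    rw [show B s₀ w₀ = σ b by rw [hb, hB.symm]]
    ring
  rw [hexp]
  simp only [map_sub, map_mul, map_inv₀, hβσ, hB.inv]
  field_simp
  field_simp at hr
  linear_combination hr

theorem exists_pair (hB : Hm B) {C : Submodule F (ι → F)} (hC : Nd B C) {x y : ι → F} (hx : x ∈ C) (hy : y ∈ C)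
    (hxy : ∀ a b : F, a • x + b • y = 0 → a = 0 ∧ b = 0) (α β : F) : ∃ w ∈ C, B x w = α ∧ B y w = β := by
  have h1 : y ∉ Submodule.span F {x} := by
    intro h
    obtain ⟨c, hc⟩ := Submodule.mem_span_singleton.1 h
    have := (hxy c (-1) (by rw [hc]; module)).2
    exact one_ne_zero (neg_eq_zero.1 this)
  have h2 : x ∉ Submodule.span F {y} := by
    intro h
    obtain ⟨c, hc⟩ := Submodule.mem_span_singleton.1 h
    have := (hxy (-1) c (by rw [hc]; module)).1
    exact one_ne_zero (neg_eq_zero.1 this)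
  obtain ⟨w1, hw1, hw1'⟩ := hB.exists_perp h1
  obtain ⟨w2, hw2, hw2'⟩ := hB.exists_perp h2
  have h3 := hw1' x (Submodule.mem_span_singleton_self x)
  have h4 := hw2' y (Submodule.mem_span_singleton_self y)
  have h5 : B y w1 = 1 := by rw [← hB.symm, hw1, map_one]
  have h6 : B x w2 = 1 := by rw [← hB.symm, hw2, map_one]
  obtain ⟨w, hw, hww⟩ := nd_proj hB hC (α • w2 + β • w1)
  refine ⟨w, hw, ?_, ?_⟩
  · rw [← hww x hx]
    simp only [map_add, map_smul, smul_eq_mul, h6, hB.zero_swap h3, mul_one, mul_zero, add_zero]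
  · rw [← hww y hy]
    simp only [map_add, map_smul, smul_eq_mul, h5, hB.zero_swap h4, mul_one, mul_zero, zero_add]

theorem exists_single (hB : Hm B) {C : Submodule F (ι → F)} (hC : Nd B C) {x : ι → F} (hx : x ∈ C)
    (hx0 : x ≠ 0) (α : F) : ∃ w ∈ C, B x w = α := by
  obtain ⟨y, hy, hyx⟩ : ∃ y ∈ C, B y x ≠ 0 := by
    by_contra hcon
    push Not at hcon
    exact hx0 (hC x hx hcon)
  have hxy := hB.ne_swap hyx
  refine ⟨(α * (B x y)⁻¹) • y, C.smul_mem _ hy, ?_⟩
  rw [map_smul, smul_eq_mul, mul_assoc, inv_mul_cancel₀ hxy, mul_one]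

/-- the isometries which are trivial on the orthogonal complement of `C` -/
def FixG (B : (ι → F) →ₛₗ[σ] (ι → F) →ₗ[F] F) (C : Submodule F (ι → F)) : Subgroup (GL ι F) where
  carrier := {g | Isom B g ∧ ∀ z ∈ prp B C, ap g z = z}
  mul_mem' := by
    rintro a b ⟨ha, ha'⟩ ⟨hb, hb'⟩
    exact ⟨ha.mul hb, fun z hz => by rw [ap_mul, hb' z hz, ha' z hz]⟩
  one_mem' := ⟨Isom.one, fun z _ => ap_one z⟩
  inv_mem' := by
    rintro a ⟨ha, ha'⟩
    exact ⟨ha.inv, fun z hz => by
      apply ap_injective a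
      rw [ap_ap_inv, ha' z hz]⟩

/-- the group generated by the transvections with centre in `C` -/
def TC (B : (ι → F) →ₛₗ[σ] (ι → F) →ₗ[F] F) (C : Submodule F (ι → F)) : Subgroup (GL ι F) :=
  Subgroup.closure {g | ∃ u ∈ C, ∃ c : F, B u u = 0 ∧ c + σ c = 0 ∧ IsTv g u (c • B u)}

theorem uc_TC {C : Submodule F (ι → F)} {u : ι → F} (hu : u ∈ C) (hu0 : B u u = 0) : UC B (TC B C) u :=
  fun c hc _ hg => Subgroup.subset_closure ⟨u, hu, c, hu0, hc, hg⟩

theorem TC_le_iff {C : Submodule F (ι → F)} {M : Subgroup (GL ι F)} : TC B C ≤ M ↔ ∀ u ∈ C, B u u = 0 → UC B M u := by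
  constructor
  · intro h u hu hu0 c hc g hg
    exact h (uc_TC hu hu0 c hc g hg)
  · intro h
    rw [TC, Subgroup.closure_le]
    rintro g ⟨u, hu, c, hu0, hc, hg⟩
    exact h u hu hu0 c hc g hg

theorem TC_le_FixG (hB : Hm B) {C : Submodule F (ι → F)} : TC B C ≤ FixG B C := by
  rw [TC_le_iff]
  intro u hu hu0 c hc g hg
  refine ⟨isom_utv hB.symm hu0 hc hg, fun z hz => ?_⟩
  rw [hg, LinearMap.smul_apply, hz u hu, smul_zero, zero_smul, add_zero]

theorem TC_le_SL {C : Submodule F (ι → F)} : TC B C ≤ Geo.specialLinear ι F := by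
  rw [TC_le_iff]
  intro u hu hu0 c hc g hg
  exact IsTv.mem_SL (by rw [LinearMap.smul_apply, hu0, smul_zero]) hg

theorem mem_of_FixG (hB : Hm B) {C : Submodule F (ι → F)} {g : GL ι F} (hg : g ∈ FixG B C) {w : ι → F} (hw : w ∈ C) :
    ap g w ∈ C := by
  rw [← prp_prp hB.nd (fun x y => hB.zero_swap) C]
  intro z hz
  rw [← hg.2 z hz, hg.1]
  exact hB.zero_swap (hz w hw)

theorem TC_conj (hB : Hm B) {C : Submodule F (ι → F)} {g h : GL ι F} (hg : Isom B g) (hgC : ∀ w ∈ C, ap g w ∈ C)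
    (hh : h ∈ TC B C) : g * h * g⁻¹ ∈ TC B C := by
  have h1 : TC B C ≤ (TC B C).comap (MulAut.conj g).toMonoidHom := by
    rw [TC_le_iff]
    intro u hu hu0 c hc k hk
    rw [Subgroup.mem_comap]
    change g * k * g⁻¹ ∈ _
    apply uc_TC (hgC u hu) (by rw [hg, hu0]) c hc
    intro x
    rw [ap_mul, ap_mul, hk, ap_add, ap_ap_inv, ap_smul, LinearMap.smul_apply, LinearMap.smul_apply]
    congr 3
    rw [← hg, ap_ap_inv]
  exact h1 hh

theorem TC_mono {C D : Submodule F (ι → F)} (h : C ≤ D) : TC B C ≤ TC B D := by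
  rw [TC_le_iff]
  exact fun u hu hu0 => uc_TC (h hu) hu0

/-- one move -/
theorem move_l (hB : Hm B) {x y : ι → F} (hx : B x x = 0) (hy : B y y = 0) (hxy : B x y ≠ 0) {l : F} (hl0 : l ≠ 0)
    (hl : l * B x y + σ (l * B x y) = 0) : ∃ g, (∃ c : F, c + σ c = 0 ∧ IsTv g (l • y - x) (c • B (l • y - x))) ∧
      B (l • y - x) (l • y - x) = 0 ∧ ap g x = l • y := by
  have hyx : B y x = σ (B x y) := (hB.symm _ _).symm
  have hσ : σ (l * B x y) = -(l * B x y) := by rw [eq_neg_iff_add_eq_zero, add_comm]; exact hl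
  have hw : B (l • y - x) (l • y - x) = 0 := by
    simp only [map_sub, LinearMap.sub_apply, map_smul, LinearMap.map_smulₛₗ, LinearMap.smul_apply, smul_eq_mul, hx, hy, hyx,
      mul_zero, zero_sub, sub_zero]
    rw [map_mul] at hl
    linear_combination -hl
  have hlx : l * B x y ≠ 0 := mul_ne_zero hl0 hxy
  obtain ⟨g, hg⟩ := exists_utv hw (-(l * B x y)⁻¹)
  refine ⟨g, ⟨_, ?_, hg⟩, hw, ?_⟩
  · rw [map_neg, map_inv₀, hσ, inv_neg]
    ring
  · rw [hg]
    have h1 : B (l • y - x) x = -(l * B x y) := by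
      rw [map_sub, LinearMap.sub_apply, hx, sub_zero, LinearMap.map_smulₛₗ, LinearMap.smul_apply, hyx, smul_eq_mul, ← map_mul, hσ]
    rw [LinearMap.smul_apply, h1, smul_eq_mul, show -(l * B x y)⁻¹ * -(l * B x y) = 1 by field_simp, one_smul]
    abel

theorem move_TC (hB : Hm B) {C : Submodule F (ι → F)} {x y : ι → F} (hxC : x ∈ C) (hyC : y ∈ C) (hx : B x x = 0)
    (hy : B y y = 0) (hxy : B x y ≠ 0) {l : F} (hl0 : l ≠ 0)
    (hl : l * B x y + σ (l * B x y) = 0) : ∃ g ∈ TC B C, ap g x = l • y := by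
  obtain ⟨g, ⟨c, hc, hg⟩, h1, h2⟩ := move_l hB hx hy hxy hl0 hl
  exact ⟨g, uc_TC (C.sub_mem (C.smul_mem _ hyC) hxC) h1 c hc g hg, h2⟩

/-- moving through `z` -/
theorem move_through (hB : Hm B) {C : Submodule F (ι → F)} {x y z : ι → F} (hxC : x ∈ C) (hyC : y ∈ C) (hzC : z ∈ C)
    (hx : B x x = 0) (hy : B y y = 0) (hz : B z z = 0) {r : F} (hr0 : r ≠ 0) (hr : σ r = r) (h : B x z * B z y = r) :
    ∃ g ∈ TC B C, ap g x = y := by
  have hxz : B x z ≠ 0 := fun h0 => hr0 (by rw [← h, h0, zero_mul])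
  have hzy : B z y ≠ 0 := fun h0 => hr0 (by rw [← h, h0, mul_zero])
  obtain ⟨k, hk0, hk⟩ := hB.exists_tz
  have hσk : σ k = -k := by rw [eq_neg_iff_add_eq_zero, add_comm]; exact hk
  obtain ⟨g, hg, hg'⟩ := move_TC hB hxC hzC hx hz hxz (l := k * (B x z)⁻¹) (mul_ne_zero hk0 (inv_ne_zero hxz))
    (by rw [mul_assoc, inv_mul_cancel₀ hxz, mul_one, hk])
  obtain ⟨g', hg1, hg1'⟩ := move_TC hB hzC hyC hz hy hzy (l := k⁻¹ * B x z) (mul_ne_zero (inv_ne_zero hk0) hxz)
    (by rw [mul_assoc, h, map_mul, map_inv₀, hσk, hr, inv_neg]; ring)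
  refine ⟨g' * g, mul_mem hg1 hg, ?_⟩
  rw [ap_mul, hg', ap_smul, hg1', smul_smul, show k * (B x z)⁻¹ * (k⁻¹ * B x z) = 1 by field_simp, one_smul]

/-- hyperbolic pairs exist -/
theorem iso_add (hB : Hm B) {e f : ι → F} (he : B e e = 0) (hef : B e f = 1) : ∃ t : F, B (f + t • e) (f + t • e) = 0 ∧
    B e (f + t • e) = 1 := by
  obtain ⟨t, ht⟩ := hB.exists_tr (-(B f f)) (by rw [map_neg, hB.self_fixed])
  have hfe : B f e = 1 := by rw [← hB.symm, hef, map_one]
  refine ⟨t, ?_, ?_⟩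
  · simp only [map_add, LinearMap.add_apply, map_smul, LinearMap.map_smulₛₗ, LinearMap.smul_apply, smul_eq_mul, he, hef, hfe]
    linear_combination ht
  · rw [map_add, map_smul, he, smul_zero, add_zero, hef]

theorem exists_partner (hB : Hm B) {C : Submodule F (ι → F)} (hC : Nd B C) {e : ι → F} (heC : e ∈ C) (he0 : e ≠ 0)
    (he : B e e = 0) : ∃ f ∈ C, B f f = 0 ∧ B e f = 1 := by
  obtain ⟨f, hf, hef⟩ := exists_single hB hC heC he0 1
  obtain ⟨t, ht1, ht2⟩ := iso_add hB he hef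
  exact ⟨_, C.add_mem hf (C.smul_mem _ heC), ht1, ht2⟩

theorem exists_aniso_nd (hB : Hm B) {C : Submodule F (ι → F)} (hC : Nd B C) (hd : 1 ≤ finrank F C) : ∃ a ∈ C, B a a ≠ 0 :=
  exists_aniso_in hB hC le_rfl (by omega)

theorem span_one_le {C : Submodule F (ι → F)} {a : ι → F} (ha : a ∈ C) : Submodule.span F {a} ≤ C :=
  (Submodule.span_singleton_le_iff_mem _ _).2 ha

theorem span_two_le {C : Submodule F (ι → F)} {a b : ι → F} (ha : a ∈ C) (hb : b ∈ C) : Submodule.span F {a, b} ≤ C := by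
  rw [Submodule.span_le]
  rintro x (rfl | hx)
  · exact ha
  · rw [Set.mem_singleton_iff] at hx
    rw [hx]
    exact hb

theorem mem_prp_one {a x : ι → F} : x ∈ prp B (Submodule.span F {a}) ↔ B a x = 0 := by
  constructor
  · exact fun h => h a (Submodule.mem_span_singleton_self a)
  · intro h w hw
    obtain ⟨c, rfl⟩ := Submodule.mem_span_singleton.1 hw
    rw [LinearMap.map_smulₛₗ, LinearMap.smul_apply, h, smul_zero]

theorem mem_prp_two {a b x : ι → F} : x ∈ prp B (Submodule.span F {a, b}) ↔ B a x = 0 ∧ B b x = 0 := by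
  constructor
  · exact fun h => ⟨h a (Submodule.subset_span (Set.mem_insert _ _)), h b (Submodule.subset_span (Set.mem_insert_of_mem _ rfl))⟩
  · rintro ⟨h1, h2⟩ w hw
    obtain ⟨c, d, rfl⟩ := Submodule.mem_span_pair.1 hw
    simp only [map_add, LinearMap.add_apply, LinearMap.map_smulₛₗ, LinearMap.smul_apply, h1, h2, smul_zero, add_zero]

theorem finrank_span_self {a : ι → F} (ha : a ≠ 0) : finrank F (Submodule.span F {a}) = 1 := finrank_span_singleton ha

theorem ne_zero_of_aniso {a : ι → F} (ha : B a a ≠ 0) : a ≠ 0 := by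
  rintro rfl
  exact ha (map_zero _)

theorem exists_hyp (hB : Hm B) {C : Submodule F (ι → F)} (hC : Nd B C) (hd : 2 ≤ finrank F C) :
    ∃ e ∈ C, ∃ f ∈ C, B e e = 0 ∧ B f f = 0 ∧ B e f = 1 := by
  obtain ⟨a, haC, ha⟩ := exists_aniso_nd hB hC (by omega)
  have hS := span_one_le haC
  have h1 := finrank_inf_prp hB hC hS
  rw [finrank_span_self (ne_zero_of_aniso ha)] at h1
  obtain ⟨b, hb, hb'⟩ := exists_aniso_nd hB (nd_inf hB hC hS (nd_span_one hB ha)) (by omega)
  obtain ⟨t, ht⟩ := iso_shift hB hb' a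
  have hae : B a (a + t • b) ≠ 0 := by
    rw [map_add, map_smul, (mem_prp_one.1 hb.2), smul_zero, add_zero]
    exact ha
  have he : a + t • b ∈ C := C.add_mem haC (C.smul_mem _ hb.1)
  obtain ⟨f, hf, hf1, hf2⟩ := exists_partner hB hC he (by
    intro h0
    rw [h0, map_zero] at hae
    exact hae rfl) ht
  exact ⟨_, he, f, hf, ht, hf1, hf2⟩

/-- transitivity on isotropic vectors, first case -/
theorem trans_ne (hB : Hm B) {C : Submodule F (ι → F)} (hC : Nd B C) (hd : 3 ≤ finrank F C) {x y : ι → F} (hxC : x ∈ C)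
    (hyC : y ∈ C) (hx : B x x = 0) (hy : B y y = 0) (hxy : B x y ≠ 0) : ∃ g ∈ TC B C, ap g x = y := by
  have hy1 : B x ((B x y)⁻¹ • y) = 1 := by rw [map_smul, smul_eq_mul, inv_mul_cancel₀ hxy]
  have hy2 : B ((B x y)⁻¹ • y) ((B x y)⁻¹ • y) = 0 := by
    rw [map_smul, LinearMap.map_smulₛₗ, LinearMap.smul_apply, hy, smul_zero, smul_zero]
  have hS := span_two_le hxC (C.smul_mem (B x y)⁻¹ hyC)
  have h1 := finrank_inf_prp hB hC hS
  rw [finrank_span_hyp hB hx hy2 hy1] at h1
  obtain ⟨s₀, hs₀, hs₀'⟩ := exists_aniso_nd hB (nd_inf hB hC hS (nd_span_two hB hx hy2 hy1)) (by omega)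
  obtain ⟨t, ht⟩ := iso_shift hB hs₀' (x + (B x y * B x y)⁻¹ • y)
  obtain ⟨h2, h3⟩ := mem_prp_two.1 hs₀.2
  have h4 : B y s₀ = 0 := by
    rw [LinearMap.map_smulₛₗ, LinearMap.smul_apply, smul_eq_mul] at h3
    exact (mul_eq_zero.1 h3).resolve_left ((map_ne_zero σ).2 (inv_ne_zero hxy))
  refine move_through hB hxC hyC (C.add_mem (C.add_mem hxC (C.smul_mem _ hyC)) (C.smul_mem t hs₀.1)) hx hy ht
    (r := 1) one_ne_zero (map_one σ) ?_
  simp only [map_add, LinearMap.add_apply, map_smul, LinearMap.map_smulₛₗ, LinearMap.smul_apply, smul_eq_mul, hx, hy, h2,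
    hB.zero_swap h4, mul_zero, add_zero, zero_add]
  field_simp

/-- transitivity on isotropic vectors -/
theorem trans_iso (hB : Hm B) {C : Submodule F (ι → F)} (hC : Nd B C) (hd : 3 ≤ finrank F C) {x y : ι → F} (hxC : x ∈ C)
    (hyC : y ∈ C) (hx : B x x = 0) (hy : B y y = 0) (hx0 : x ≠ 0) (hy0 : y ≠ 0) : ∃ g ∈ TC B C, ap g x = y := by
  by_cases hxy : B x y = 0
  · obtain ⟨z, hz, hz1, hz2, hz3⟩ : ∃ z ∈ C, B z z = 0 ∧ B x z ≠ 0 ∧ B z y ≠ 0 := by
      by_cases hli : ∃ c : F, y = c • x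
      · obtain ⟨c, rfl⟩ := hli
        obtain ⟨z, hz, hz1, hz2⟩ := exists_partner hB hC hxC hx0 hx
        refine ⟨z, hz, hz1, by rw [hz2]; exact one_ne_zero, ?_⟩
        have h1 : B z x = 1 := by rw [← hB.symm, hz2, map_one]
        rw [map_smul, h1, smul_eq_mul, mul_one]
        rintro rfl
        rw [zero_smul] at hy0
        exact hy0 rfl
      · have hind : ∀ a b : F, a • x + b • y = 0 → a = 0 ∧ b = 0 := by
          intro a b hab
          have hb : b = 0 := by
            by_contra hb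
            apply hli
            refine ⟨-(b⁻¹ * a), ?_⟩
            have h3 : b • y = -(a • x) := by rw [eq_neg_iff_add_eq_zero, add_comm]; exact hab
            have h4 : y = b⁻¹ • (b • y) := by rw [smul_smul, inv_mul_cancel₀ hb, one_smul]
            rw [h4, h3, smul_neg, smul_smul, neg_smul]
          subst hb
          rw [zero_smul, add_zero] at hab
          exact ⟨(smul_eq_zero.1 hab).resolve_right hx0, rfl⟩
        obtain ⟨z, hz, hz1, hz2⟩ := exists_pair hB hC hxC hyC hind 1 1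
        obtain ⟨t, ht1, ht2⟩ := iso_add hB hx hz1
        refine ⟨_, C.add_mem hz (C.smul_mem t hxC), ht1, by rw [ht2]; exact one_ne_zero, ?_⟩
        rw [map_add, LinearMap.add_apply, LinearMap.map_smulₛₗ, LinearMap.smul_apply, hxy, smul_zero, add_zero, ← hB.symm, hz2,
          map_one]
        exact one_ne_zero
    obtain ⟨g, hg, hg'⟩ := trans_ne hB hC hd hxC hz hx hz1 hz2
    obtain ⟨h, hh, hh'⟩ := trans_ne hB hC hd hz hyC hz1 hy hz3
    exact ⟨h * g, mul_mem hh hg, by rw [ap_mul, hg', hh']⟩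
  · exact trans_ne hB hC hd hxC hyC hx hy hxy

theorem exists_norm_one (hB : Hm B) : ∃ u : F, u * σ u = 1 ∧ u ≠ 1 := by
  obtain ⟨a, ha⟩ : ∃ a, σ a ≠ a := by
    by_contra hcon
    push Not at hcon
    exact hB.ne (RingHom.ext hcon)
  have ha0 : a ≠ 0 := by
    rintro rfl
    exact ha (map_zero σ)
  have hσa : σ a ≠ 0 := (map_ne_zero σ).2 ha0
  refine ⟨a * (σ a)⁻¹, ?_, ?_⟩
  · rw [map_mul, map_inv₀, hB.inv]
    field_simp
  · intro h
    apply ha
    field_simp at h
    exact h.symm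

/-- isotropic vectors generate -/
theorem iso_induction (hB : Hm B) {D : Submodule F (ι → F)} (hD : Nd B D) (hd : 2 ≤ finrank F D) (R : (ι → F) → Prop)
    (hiso : ∀ s ∈ D, B s s = 0 → R s) (hadd : ∀ s ∈ D, ∀ t ∈ D, R s → R t → R (s + t)) {s : ι → F} (hs : s ∈ D) : R s := by
  by_cases h0 : B s s = 0
  · exact hiso s hs h0
  have hS := span_one_le hs
  have h1 := finrank_inf_prp hB hD hS
  rw [finrank_span_self (ne_zero_of_aniso h0)] at h1
  obtain ⟨t, ht, ht'⟩ := exists_aniso_nd hB (nd_inf hB hD hS (nd_span_one hB h0)) (by omega)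
  have hst : B s t = 0 := mem_prp_one.1 ht.2
  obtain ⟨l, hl⟩ := hB.norm (-(B s s) * (B t t)⁻¹) (by
    rw [map_mul, map_neg, map_inv₀, hB.self_fixed, hB.self_fixed])
  have hl' : l * σ l * B t t = -(B s s) := by rw [hl, mul_assoc, inv_mul_cancel₀ ht', mul_one]
  obtain ⟨u, hu, hu1⟩ := exists_norm_one hB
  have key : ∀ a m : F, m * σ m = 1 → B (a • (s + (m * l) • t)) (a • (s + (m * l) • t)) = 0 := by
    intro a m hm
    simp only [map_add, LinearMap.add_apply, map_smul, LinearMap.map_smulₛₗ, LinearMap.smul_apply, smul_eq_mul, hst,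
      hB.zero_swap hst, mul_zero, add_zero, zero_add, map_mul]
    have : B s s + m * l * (σ m * σ l * B t t) = 0 := by
      linear_combination (l * σ l * B t t) * hm + hl'
    linear_combination (a * σ a) * this
  have hu1' : 1 - u ≠ 0 := sub_ne_zero.2 (Ne.symm hu1)
  have h2 : s = (-(u * (1 - u)⁻¹)) • (s + (1 * l) • t) + (1 - u)⁻¹ • (s + (u * l) • t) := by
    have e1 : (-(u * (1 - u)⁻¹)) + (1 - u)⁻¹ = 1 := by field_simp; ring
    have e2 : (-(u * (1 - u)⁻¹)) • (s + (1 * l) • t) + (1 - u)⁻¹ • (s + (u * l) • t) =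
        ((-(u * (1 - u)⁻¹)) + (1 - u)⁻¹) • s := by
      module
    rw [e2, e1, one_smul]
  have hm1 : ∀ m : F, s + (m * l) • t ∈ D := fun m => D.add_mem hs (D.smul_mem _ ht.1)
  have h3 := hadd _ (D.smul_mem _ (hm1 1)) _ (D.smul_mem _ (hm1 u))
    (hiso _ (D.smul_mem (-(u * (1 - u)⁻¹)) (hm1 1)) (key _ 1 (by rw [map_one, mul_one])))
    (hiso _ (D.smul_mem ((1 - u)⁻¹) (hm1 u)) (key _ u hu))
  rwa [← h2] at h3

/-- transitivity on hyperbolic pairs with a given first vector -/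
theorem trans_hyp (hB : Hm B) {C : Submodule F (ι → F)} (hC : Nd B C) (hd : 4 ≤ finrank F C) {e f f' : ι → F} (heC : e ∈ C)
    (hfC : f ∈ C) (hfC' : f' ∈ C) (he : B e e = 0) (hf : B f f = 0) (hf' : B f' f' = 0) (hef : B e f = 1) (hef' : B e f' = 1) :
    ∃ g ∈ TC B C, ap g e = e ∧ ap g f = f' := by
  have hfe : B f e = 1 := by rw [← hB.symm, hef, map_one]
  have hS := span_two_le heC hfC
  have h1 := finrank_inf_prp hB hC hS
  rw [finrank_span_hyp hB he hf hef] at h1
  have hD := nd_inf hB hC hS (nd_span_two hB he hf hef)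
  obtain ⟨k, hk0, hk⟩ := hB.exists_tz
  have hσk : σ k = -k := by rw [eq_neg_iff_add_eq_zero, add_comm]; exact hk
  have key : ∀ s ∈ C ⊓ prp B (Submodule.span F {e, f}), ∃ g ∈ TC B C, ap g e = e ∧ (∃ b : F, ap g f = f + s + b • e) ∧
      ∀ x ∈ C, B e x = 0 → ∃ b : F, ap g x = x + b • e := by
    intro s hs
    refine iso_induction hB hD (by omega) (fun s => ∃ g ∈ TC B C, ap g e = e ∧ (∃ b : F, ap g f = f + s + b • e) ∧
      ∀ x ∈ C, B e x = 0 → ∃ b : F, ap g x = x + b • e) ?_ ?_ hs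
    · intro s hs hs0
      obtain ⟨hse, hsf⟩ := mem_prp_two.1 hs.2
      have hse' := hB.zero_swap hse
      have hsf' := hB.zero_swap hsf
      have hw : B (s + (σ k)⁻¹ • e) (s + (σ k)⁻¹ • e) = 0 := by
        simp only [map_add, LinearMap.add_apply, map_smul, LinearMap.map_smulₛₗ, LinearMap.smul_apply, hs0, hse, hse', he,
          smul_zero, add_zero]
      obtain ⟨g, hg⟩ := exists_utv hw k
      obtain ⟨h, hh⟩ := exists_utv hs0 (-k)
      have hgT : g ∈ TC B C := uc_TC (C.add_mem hs.1 (C.smul_mem _ heC)) hw k hk g hg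
      have hhT : h ∈ TC B C := uc_TC hs.1 hs0 (-k) (by rw [map_neg, ← neg_add, hk, neg_zero]) h hh
      have hσσ : σ (σ k)⁻¹ = k⁻¹ := by rw [map_inv₀, hB.inv]
      have hap : ∀ x, ap (h * g) x = x + (k * (B s x + k⁻¹ * B e x)) • (s + (σ k)⁻¹ • e) - (k * B s x) • s := by
        intro x
        rw [ap_mul, hg, hh]
        simp only [map_add, LinearMap.add_apply, map_smul, LinearMap.map_smulₛₗ, LinearMap.smul_apply, smul_eq_mul, hs0, hse',
          hσσ, mul_zero, add_zero, neg_mul, neg_smul]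
        abel
      refine ⟨h * g, mul_mem hhT hgT, ?_, ⟨(σ k)⁻¹, ?_⟩, ?_⟩
      · rw [hap, hse', he]
        simp
      · rw [hap, hsf', hef, zero_add, mul_one, mul_inv_cancel₀ hk0, one_smul, mul_zero, zero_smul, sub_zero, add_assoc]
      · intro x _ hx
        refine ⟨k * B s x * (σ k)⁻¹, ?_⟩
        rw [hap, hx]
        module
    · rintro s hs t ht ⟨g, hg, hge, ⟨b, hgf⟩, hg'⟩ ⟨h, hh, hhe, ⟨b', hhf⟩, hh'⟩
      have hgt := hg' t ht.1 (mem_prp_two.1 ht.2).1
      obtain ⟨b'', hgt⟩ := hgt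
      refine ⟨g * h, mul_mem hg hh, by rw [ap_mul, hhe, hge], ⟨b + b'' + b', ?_⟩, ?_⟩
      · rw [ap_mul, hhf, ap_add, ap_add, ap_smul, hge, hgf, hgt]
        module
      · intro x hx hex
        obtain ⟨c, hc⟩ := hh' x hx hex
        obtain ⟨d, hd⟩ := hg' x hx hex
        refine ⟨d + c, ?_⟩
        rw [ap_mul, hc, ap_add, ap_smul, hd, hge]
        module
  obtain ⟨a, ha⟩ : ∃ a, a = B f (f' - f) := ⟨_, rfl⟩
  obtain ⟨s, hs⟩ : ∃ s, s = f' - f - a • e := ⟨_, rfl⟩
  have hsD : s ∈ C ⊓ prp B (Submodule.span F {e, f}) := by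
    refine ⟨?_, mem_prp_two.2 ⟨?_, ?_⟩⟩
    · rw [hs]
      exact C.sub_mem (C.sub_mem hfC' hfC) (C.smul_mem _ heC)
    · rw [hs, map_sub, map_sub, map_smul, he, hef, hef', smul_zero, sub_self, sub_zero]
    · rw [hs, map_sub, ← ha, map_smul, hfe, smul_eq_mul, mul_one, sub_self]
  obtain ⟨g, hg, hge, ⟨b, hgf⟩, -⟩ := key s hsD
  obtain ⟨hse, hsf⟩ := mem_prp_two.1 hsD.2
  have hse' := hB.zero_swap hse
  have hsf' := hB.zero_swap hsf
  have hf'eq : f' = f + s + a • e := by rw [hs]; abel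
  have e1 : ∀ x : F, B (f + s + x • e) (f + s + x • e) = B s s + (x + σ x) := by
    intro x
    simp only [map_add, LinearMap.add_apply, map_smul, LinearMap.map_smulₛₗ, LinearMap.smul_apply, smul_eq_mul, hf, hsf, hsf',
      hfe, hef, hse, hse', he]
    ring
  have e2 := e1 a
  rw [← hf'eq, hf'] at e2
  have e3 := e1 b
  rw [← hgf, ((TC_le_FixG hB hg).1), hf] at e3
  obtain ⟨h, hh⟩ := exists_utv he (a - b)
  have hhT : h ∈ TC B C := uc_TC heC he (a - b) (by rw [map_sub]; linear_combination e3 - e2) h hh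
  refine ⟨h * g, mul_mem hhT hg, ?_, ?_⟩
  · rw [ap_mul, hge, hh, LinearMap.smul_apply, he, smul_zero, zero_smul, add_zero]
  · rw [ap_mul, hgf, hh]
    simp only [map_add, LinearMap.smul_apply, map_smul, hef, hse, he, smul_zero, add_zero, smul_eq_mul, mul_one]
    rw [hf'eq]
    module

/-- transitivity on anisotropic vectors -/
theorem trans_aniso (hB : Hm B) {C : Submodule F (ι → F)} (hC : Nd B C) (hd : 5 ≤ finrank F C) {x y : ι → F} (hxC : x ∈ C)
    (hyC : y ∈ C) (hx : B x x ≠ 0) (hxy : B y y = B x x) : ∃ g ∈ TC B C, ap g x = y := by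
  obtain ⟨k, hk0, hk⟩ := hB.exists_tz
  have hσk : σ k = -k := by rw [eq_neg_iff_add_eq_zero, add_comm]; exact hk
  -- one transvection
  have h1 : ∀ x ∈ C, ∀ y ∈ C, B y y = B x x → B (y - x) (y - x) = 0 → B (y - x) x ≠ 0 → ∃ g ∈ TC B C, ap g x = y := by
    intro x hx y hy hyy hyx hne
    obtain ⟨g, hg⟩ := exists_utv hyx (B (y - x) x)⁻¹
    have h2 : B (y - x) x + σ (B (y - x) x) = 0 := by
      rw [hB.symm]
      simp only [map_sub, LinearMap.sub_apply] at hyx ⊢
      linear_combination hyy - hyx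
    have h3 : σ (B (y - x) x) = -B (y - x) x := by rw [eq_neg_iff_add_eq_zero, add_comm]; exact h2
    refine ⟨g, uc_TC (C.sub_mem hy hx) hyx _ ?_ g hg, ?_⟩
    · rw [map_inv₀, h3, inv_neg]
      ring
    · rw [hg, LinearMap.smul_apply, smul_eq_mul, inv_mul_cancel₀ hne, one_smul]
      abel
  -- independent vectors
  have h2 : ∀ x ∈ C, ∀ y ∈ C, B x x ≠ 0 → B y y = B x x → (∀ a b : F, a • x + b • y = 0 → a = 0 ∧ b = 0) →
      ∃ g ∈ TC B C, ap g x = y := by
    intro x hx y hy hx0 hyy hli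
    obtain ⟨w₀, hw₀, hw1, hw2⟩ := exists_pair hB hC hx hy hli (B x x + k - B x y) k
    have hS := span_two_le hx hy
    have h3 := finrank_inf_prp hB hC hS
    have h4 := finrank_span_two (F := F) x y
    obtain ⟨s₀, hs₀, hs₀'⟩ := exists_aniso_in hB hC (U := C ⊓ prp B (Submodule.span F {x, y})) inf_le_left (by omega)
    obtain ⟨hs1, hs2⟩ := mem_prp_two.1 hs₀.2
    obtain ⟨t, ht⟩ := iso_shift hB hs₀' w₀
    obtain ⟨w, hw⟩ : ∃ w, w = w₀ + t • s₀ := ⟨_, rfl⟩
    rw [← hw] at ht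
    have hwC : w ∈ C := by rw [hw]; exact C.add_mem hw₀ (C.smul_mem _ hs₀.1)
    have hwx : B x w = B x x + k - B x y := by rw [hw, map_add, map_smul, hs1, smul_zero, add_zero, hw1]
    have hwy : B y w = k := by rw [hw, map_add, map_smul, hs2, smul_zero, add_zero, hw2]
    have hwx' : B w x = B x x - k - B y x := by
      rw [← hB.symm, hwx, map_sub, map_add, hB.symm, hσk, hB.symm]
      ring
    have hwy' : B w y = -k := by rw [← hB.symm, hwy, hσk]
    obtain ⟨g, hg, hg'⟩ := h1 x hx (y + w) (C.add_mem hy hwC) (by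
      simp only [map_add, LinearMap.add_apply, hwy, hwy', ht, hyy]
      ring) (by
      simp only [map_add, LinearMap.add_apply, map_sub, LinearMap.sub_apply, hwy, hwy', ht, hyy, hwx, hwx']
      ring) (by
      simp only [map_add, LinearMap.add_apply, map_sub, LinearMap.sub_apply, hwx']
      rw [show B y x + (B x x - k - B y x) - B x x = -k by ring]
      exact neg_ne_zero.2 hk0)
    obtain ⟨h, hh, hh'⟩ := h1 (y + w) (C.add_mem hy hwC) y hy (by
      simp only [map_add, LinearMap.add_apply, hwy, hwy', ht]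
      ring) (by
      rw [show y - (y + w) = -w by abel, map_neg, map_neg, LinearMap.neg_apply, ht, neg_zero, neg_zero]) (by
      rw [show y - (y + w) = -w by abel, map_neg, LinearMap.neg_apply, map_add, ht, hwy', add_zero, neg_neg]
      exact hk0)
    exact ⟨h * g, mul_mem hh hg, by rw [ap_mul, hg', hh']⟩
  have hx0 := ne_zero_of_aniso hx
  by_cases hli : ∃ c : F, y = c • x
  · obtain ⟨c, hc⟩ := hli
    have hS := span_one_le hxC
    have h3 := finrank_inf_prp hB hC hS
    rw [finrank_span_self hx0] at h3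
    obtain ⟨s, hs, hs'⟩ := exists_aniso_nd hB (nd_inf hB hC hS (nd_span_one hB hx)) (by omega)
    have hxs := mem_prp_one.1 hs.2
    obtain ⟨l, hl⟩ := hB.norm (B x x * (B s s)⁻¹) (by rw [map_mul, map_inv₀, hB.self_fixed, hB.self_fixed])
    have hl0 : l ≠ 0 := by
      rintro rfl
      rw [zero_mul] at hl
      exact mul_ne_zero hx (inv_ne_zero hs') hl.symm
    have hzz : B (l • s) (l • s) = B x x := by
      rw [map_smul, LinearMap.map_smulₛₗ, LinearMap.smul_apply, smul_eq_mul, smul_eq_mul, ← mul_assoc, hl, mul_assoc,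
        inv_mul_cancel₀ hs', mul_one]
    have hxz : B x (l • s) = 0 := by rw [map_smul, hxs, smul_zero]
    have hind : ∀ v : ι → F, v ≠ 0 → B v v ≠ 0 → B v (l • s) = 0 → (∀ a b : F, a • v + b • (l • s) = 0 → a = 0 ∧ b = 0) := by
      intro v hv0 hv hvs a b hab
      have h5 := congrArg (B v) hab
      rw [map_add, map_smul, map_smul, hvs, smul_zero, add_zero, map_zero, smul_eq_mul] at h5
      have h6 := (mul_eq_zero.1 h5).resolve_right hv
      subst h6
      rw [zero_smul, zero_add, smul_smul] at hab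
      have h7 := (smul_eq_zero.1 hab).resolve_right (ne_zero_of_aniso hs')
      exact ⟨rfl, (mul_eq_zero.1 h7).resolve_right hl0⟩
    obtain ⟨g, hg, hg'⟩ := h2 x hxC (l • s) (C.smul_mem _ hs.1) hx hzz (hind x hx0 hx hxz)
    have hy0 : B y y ≠ 0 := by rw [hxy]; exact hx
    have hyz : B y (l • s) = 0 := by
      rw [hc, map_smul, LinearMap.map_smulₛₗ, LinearMap.smul_apply, hxs, smul_zero, smul_zero]
    obtain ⟨h, hh, hh'⟩ := h2 (l • s) (C.smul_mem _ hs.1) y hyC (by rw [hzz]; exact hx) (by rw [hzz, hxy]) (by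
      intro a b hab
      have := hind y (ne_zero_of_aniso hy0) hy0 hyz b a (by rw [add_comm]; exact hab)
      exact ⟨this.2, this.1⟩)
    exact ⟨h * g, mul_mem hh hg, by rw [ap_mul, hg', hh']⟩
  · refine h2 x hxC y hyC hx hxy (fun a b hab => ?_)
    have hb : b = 0 := by
      by_contra hb
      apply hli
      refine ⟨-(b⁻¹ * a), ?_⟩
      have h3 : b • y = -(a • x) := by rw [eq_neg_iff_add_eq_zero, add_comm]; exact hab
      have h4 : y = b⁻¹ • (b • y) := by rw [smul_smul, inv_mul_cancel₀ hb, one_smul]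
      rw [h4, h3, smul_neg, smul_smul, neg_smul]
    subst hb
    rw [zero_smul, add_zero] at hab
    exact ⟨(smul_eq_zero.1 hab).resolve_right hx0, rfl⟩

theorem FixG_inf (hB : Hm B) {C S : Submodule F (ι → F)} (hC : Nd B C) (hSC : S ≤ C) (hS : Nd B S) {g : GL ι F}
    (hg : g ∈ FixG B C) (hgS : ∀ s ∈ S, ap g s = s) : g ∈ FixG B (C ⊓ prp B S) := by
  refine ⟨hg.1, fun z hz => ?_⟩
  obtain ⟨s, hs, hzs⟩ := nd_proj hB hS z
  obtain ⟨w, hw, hzw⟩ := nd_proj hB hC (z - s)
  have h1 : w ∈ prp B S := by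
    intro y hy
    rw [← hzw y (hSC hy), map_sub, hzs y hy, sub_self]
  have h2 : w = 0 := by
    apply nd_inf hB hC hSC hS w ⟨hw, h1⟩
    intro y hy
    rw [← hzw y hy.1, map_sub, hz y hy, zero_sub, neg_eq_zero]
    exact hB.zero_swap (hy.2 s hs)
  have h3 : z - s ∈ prp B C := by
    intro y hy
    rw [hzw y hy, h2, map_zero]
  have h4 := hg.2 _ h3
  rw [ap_sub, hgS s hs] at h4
  exact sub_left_injective h4

/-- the general transvection determinant -/
theorem det_of_tv {g : GL ι F} {u : ι → F} {l : Dual F (ι → F)} (hg : IsTv g u l) : LinearMap.det (lin g) = 1 + l u := by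
  have : lin g = LinearMap.transvection l u := by
    apply LinearMap.ext
    intro x
    rw [lin_apply, hg, LinearMap.transvection.apply]
  rw [this, LinearMap.transvection.det]

theorem exists_gtv {u : ι → F} {l : Dual F (ι → F)} (h : 1 + l u ≠ 0) : ∃ g : GL ι F, IsTv g u l := by
  let T : (ι → F) →ₗ[F] (ι → F) := LinearMap.transvection l u
  have hinj : Function.Injective T := by
    rw [injective_iff_map_eq_zero]
    intro x hx
    have h1 : x + l x • u = 0 := by rw [← LinearMap.transvection.apply]; exact hx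
    have h2 := congrArg l h1
    rw [map_add, map_smul, map_zero, smul_eq_mul] at h2
    have h3 : l x * (1 + l u) = 0 := by linear_combination h2
    have h4 := (mul_eq_zero.1 h3).resolve_right h
    rw [h4, zero_smul, add_zero] at h1
    exact h1
  obtain ⟨g, hg⟩ := exists_ap (LinearEquiv.ofInjectiveEndo T hinj)
  refine ⟨g, fun x => ?_⟩
  rw [hg, LinearEquiv.coe_ofInjectiveEndo]
  exact LinearMap.transvection.apply _ _ _

theorem det_mul_lin (g h : GL ι F) : LinearMap.det (lin (g * h)) = LinearMap.det (lin g) * LinearMap.det (lin h) := by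
  rw [← LinearMap.det_comp]
  congr 1
  apply LinearMap.ext
  intro x
  exact ap_mul g h x

/-- extensionality on a decomposition -/
theorem ext_hyp (hB : Hm B) {e f : ι → F} (he : B e e = 0) (hf : B f f = 0) (hef : B e f = 1) {g h : GL ι F}
    (h1 : ap g e = ap h e) (h2 : ap g f = ap h f) (h3 : ∀ z, B e z = 0 → B f z = 0 → ap g z = ap h z) : g = h := by
  have hfe : B f e = 1 := by rw [← hB.symm, hef, map_one]
  apply ap_ext
  intro x
  have hx : x = (B f x) • e + (B e x) • f + (x - (B f x) • e - (B e x) • f) := by abel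
  rw [hx, ap_add, ap_add, ap_smul, ap_smul, h1, h2, h3, ap_add, ap_add, ap_smul, ap_smul]
  · rw [map_sub, map_sub, map_smul, map_smul, he, hef, smul_zero, sub_zero, smul_eq_mul, mul_one, sub_self]
  · rw [map_sub, map_sub, map_smul, map_smul, hf, hfe, smul_zero, sub_zero, smul_eq_mul, mul_one, sub_self]

/-- the determinant of an isometry stabilising a hyperbolic pair up to scalars -/
theorem det_hyp (hB : Hm B) {e f : ι → F} (he : B e e = 0) (hf : B f f = 0) (hef : B e f = 1) {g : GL ι F} {l α β : F}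
    (hl : l ≠ 0) (hβ : β ≠ 0) (h1 : ap g e = l • e) (h2 : ap g f = α • e + β • f)
    (h3 : ∀ z, B e z = 0 → B f z = 0 → ap g z = z) : LinearMap.det (lin g) = l * β := by
  have hfe : B f e = 1 := by rw [← hB.symm, hef, map_one]
  obtain ⟨D1, hD1⟩ := exists_gtv (u := e) (l := (l - 1) • B f) (by
    rw [LinearMap.smul_apply, hfe, smul_eq_mul, mul_one, add_sub_cancel]; exact hl)
  obtain ⟨D2, hD2⟩ := exists_gtv (u := f) (l := (β - 1) • B e) (by
    rw [LinearMap.smul_apply, hef, smul_eq_mul, mul_one, add_sub_cancel]; exact hβ)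
  obtain ⟨T, hT⟩ := exists_gtv (u := e) (l := (l⁻¹ * α) • B e) (by
    rw [LinearMap.smul_apply, he, smul_zero, add_zero]; exact one_ne_zero)
  have hg : g = D1 * (D2 * T) := by
    apply ext_hyp hB he hf hef
    · rw [h1, ap_mul, ap_mul, hT, LinearMap.smul_apply, he, smul_zero, zero_smul, add_zero, hD2, LinearMap.smul_apply, he,
        smul_zero, zero_smul, add_zero, hD1, LinearMap.smul_apply, hfe, smul_eq_mul, mul_one]
      module
    · rw [h2, ap_mul, ap_mul, hT, LinearMap.smul_apply, hef, smul_eq_mul, mul_one, hD2]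
      simp only [LinearMap.smul_apply, map_add, map_smul, smul_eq_mul, hef, he, mul_zero, add_zero, mul_one]
      rw [hD1]
      simp only [LinearMap.smul_apply, map_add, map_smul, smul_eq_mul, hf, hfe, mul_zero, add_zero, mul_one, zero_add]
      have : α = l * (l⁻¹ * α) := by rw [← mul_assoc, mul_inv_cancel₀ hl, one_mul]
      nth_rewrite 1 [this]
      module
    · intro z hz1 hz2
      rw [h3 z hz1 hz2, ap_mul, ap_mul, hT, LinearMap.smul_apply, hz1, smul_zero, zero_smul, add_zero, hD2,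
        LinearMap.smul_apply, hz1, smul_zero, zero_smul, add_zero, hD1, LinearMap.smul_apply, hz2, smul_zero, zero_smul,
        add_zero]
  rw [hg, det_mul_lin, det_mul_lin, det_of_tv hD1, det_of_tv hD2, det_of_tv hT]
  simp only [LinearMap.smul_apply, hef, hfe, he, smul_eq_mul, mul_one, mul_zero, add_zero]
  ring

theorem gen_two (hB : Hm B) {C : Submodule F (ι → F)} (hC : Nd B C) (hd : finrank F C = 2) {g : GL ι F}
    (hg : g ∈ FixG B C) (hdet : g ∈ Geo.specialLinear ι F) : g ∈ TC B C := by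
  obtain ⟨e, heC, f, hfC, he, hf, hef⟩ := exists_hyp hB hC (by omega)
  have hfe : B f e = 1 := by rw [← hB.symm, hef, map_one]
  have hCeq : Submodule.span F {e, f} = C := by
    apply Submodule.eq_of_le_of_finrank_eq (span_two_le heC hfC)
    rw [finrank_span_hyp hB he hf hef, hd]
  have hprp : ∀ z, B e z = 0 → B f z = 0 → z ∈ prp B C := by
    intro z h1 h2
    rw [← hCeq]
    exact mem_prp_two.2 ⟨h1, h2⟩
  have he0 : e ≠ 0 := by
    rintro rfl
    rw [map_zero, LinearMap.zero_apply] at hef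
    exact one_ne_zero hef.symm
  obtain ⟨k, hk0, hk⟩ := hB.exists_tz
  -- step 1
  obtain ⟨h, hh, l, hl0, hhl⟩ : ∃ h ∈ TC B C, ∃ l : F, l ≠ 0 ∧ ap h (ap g e) = l • e := by
    by_cases h0 : B (ap g e) e = 0
    · have h1 : ap g e ∈ Submodule.span F {e, f} := by rw [hCeq]; exact mem_of_FixG hB hg heC
      obtain ⟨a, b, hab⟩ := Submodule.mem_span_pair.1 h1
      have h2 : b = 0 := by
        rw [← hab] at h0
        simp only [map_add, LinearMap.add_apply, LinearMap.map_smulₛₗ, LinearMap.smul_apply, he, hfe, smul_eq_mul, mul_zero,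
          zero_add, mul_one] at h0
        exact (map_eq_zero σ).1 h0
      rw [h2, zero_smul, add_zero] at hab
      refine ⟨1, one_mem _, a, ?_, by rw [ap_one, hab]⟩
      rintro rfl
      rw [zero_smul] at hab
      exact he0 (ap_eq_zero.1 hab.symm)
    · obtain ⟨h, hh, hh'⟩ := move_TC hB (mem_of_FixG hB hg heC) heC (by rw [hg.1, he]) he h0 (l := k * (B (ap g e) e)⁻¹)
        (mul_ne_zero hk0 (inv_ne_zero h0)) (by rw [mul_assoc, inv_mul_cancel₀ h0, mul_one, hk])
      exact ⟨h, hh, _, mul_ne_zero hk0 (inv_ne_zero h0), hh'⟩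
  have hg1 : h * g ∈ FixG B C := mul_mem (TC_le_FixG hB hh) hg
  have hg1S : h * g ∈ Geo.specialLinear ι F := mul_mem (TC_le_SL hh) hdet
  have h1 : ap (h * g) e = l • e := by rw [ap_mul, hhl]
  have h2 : ap (h * g) f ∈ Submodule.span F {e, f} := by rw [hCeq]; exact mem_of_FixG hB hg1 hfC
  obtain ⟨α, β, h2⟩ := Submodule.mem_span_pair.1 h2
  have h3 := hg1.1 e f
  rw [h1, ← h2, hef] at h3
  simp only [map_add, LinearMap.map_smulₛₗ, LinearMap.smul_apply, map_smul, he, hef, smul_eq_mul, mul_zero,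
    zero_add, mul_one] at h3
  have hβ0 : β ≠ 0 := by
    rintro rfl
    simp at h3
  have h4 := det_hyp hB he hf hef hl0 hβ0 h1 h2.symm (fun z hz1 hz2 => hg1.2 z (hprp z hz1 hz2))
  rw [(mem_SL_iff' _).1 hg1S] at h4
  have hσl : σ l = l := by
    have h5 : β * (σ l - l) = 0 := by
      linear_combination h3 + h4
    exact sub_eq_zero.1 ((mul_eq_zero.1 h5).resolve_left hβ0)
  -- step 2
  obtain ⟨h', hh', hhe'⟩ := move_through hB (C.smul_mem l heC) heC hfC (x := l • e) (y := e) (z := f) (by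
    simp only [LinearMap.map_smulₛₗ, LinearMap.smul_apply, he, smul_zero]) he hf hl0 hσl (by
    rw [LinearMap.map_smulₛₗ, LinearMap.smul_apply, hef, hfe, hσl, smul_eq_mul, mul_one, mul_one])
  have hg2 : h' * (h * g) ∈ FixG B C := mul_mem (TC_le_FixG hB hh') hg1
  have h5 : ap (h' * (h * g)) e = e := by rw [ap_mul, h1, hhe']
  have h6 : ap (h' * (h * g)) f ∈ Submodule.span F {e, f} := by rw [hCeq]; exact mem_of_FixG hB hg2 hfC
  obtain ⟨α', β', h6⟩ := Submodule.mem_span_pair.1 h6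
  have h7 := hg2.1 e f
  rw [h5, ← h6, hef, map_add, map_smul, map_smul, he, hef, smul_zero, zero_add, smul_eq_mul, mul_one] at h7
  rw [h7, one_smul] at h6
  have h8 := hg2.1 f f
  rw [← h6, hf] at h8
  simp only [map_add, LinearMap.add_apply, LinearMap.map_smulₛₗ, LinearMap.smul_apply, map_smul, he, hf, hef, hfe, smul_eq_mul,
    mul_zero, zero_add, mul_one, add_zero] at h8
  have h9 : h' * (h * g) ∈ TC B C := by
    apply uc_TC heC he α' (by linear_combination h8)
    intro x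
    obtain ⟨T, hT⟩ := exists_utv he α'
    rw [← hT x]
    have : h' * (h * g) = T := by
      apply ext_hyp hB he hf hef
      · rw [h5, hT, LinearMap.smul_apply, he, smul_zero, zero_smul, add_zero]
      · rw [← h6, hT, LinearMap.smul_apply, hef, smul_eq_mul, mul_one]
        abel
      · intro z hz1 hz2
        rw [hg2.2 z (hprp z hz1 hz2), hT, LinearMap.smul_apply, hz1, smul_zero, zero_smul, add_zero]
    rw [this]
  have h10 := mul_mem (inv_mem hh) (mul_mem (inv_mem hh') h9)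
  rwa [show h⁻¹ * (h'⁻¹ * (h' * (h * g))) = g by group] at h10

/-- **generation** of special unitary groups by transvections -/
theorem gen (hB : Hm B) (d : ℕ) : ∀ (C : Submodule F (ι → F)), finrank F C = d → Nd B C → (d = 2 ∨ 4 ≤ d) →
    ∀ g ∈ FixG B C, g ∈ Geo.specialLinear ι F → g ∈ TC B C := by
  induction d using Nat.strong_induction_on with
  | _ d ih =>
  intro C hd hC hd' g hg hS
  by_cases h2 : d = 2
  · exact gen_two hB hC (by omega) hg hS
  have h4 : 4 ≤ d := by omega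
  by_cases hev : Even d
  · -- a hyperbolic pair
    obtain ⟨e, heC, f, hfC, he, hf, hef⟩ := exists_hyp hB hC (by omega)
    have he0 : e ≠ 0 := by
      rintro rfl
      rw [map_zero, LinearMap.zero_apply] at hef
      exact one_ne_zero hef.symm
    obtain ⟨h, hh, hhe⟩ := trans_iso hB hC (by omega) (mem_of_FixG hB hg heC) heC (by rw [hg.1, he]) he
      (fun h0 => he0 (ap_eq_zero.1 h0)) he0
    have h1 : h * g ∈ FixG B C := mul_mem (TC_le_FixG hB hh) hg
    have h2 : ap (h * g) e = e := by rw [ap_mul, hhe]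
    obtain ⟨k, hk, hke, hkf⟩ := trans_hyp hB hC (by omega) heC (mem_of_FixG hB h1 hfC) hfC he (by rw [h1.1, hf]) hf (by
      nth_rewrite 1 [← h2]
      rw [h1.1, hef]) hef
    have h3 : k * (h * g) ∈ FixG B C := mul_mem (TC_le_FixG hB hk) h1
    have h5 : k * (h * g) ∈ Geo.specialLinear ι F := mul_mem (TC_le_SL hk) (mul_mem (TC_le_SL hh) hS)
    have hSC := span_two_le heC hfC
    have hSN := nd_span_two hB he hf hef
    have h6 := FixG_inf hB hC hSC hSN h3 (fun s hs => by
      obtain ⟨a, b, rfl⟩ := Submodule.mem_span_pair.1 hs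
      rw [ap_add, ap_smul, ap_smul, ap_mul, h2, hke, ap_mul, hkf])
    have h7 := finrank_inf_prp hB hC hSC
    rw [finrank_span_hyp hB he hf hef] at h7
    obtain ⟨r, hr⟩ := hev
    have h8 := ih (d - 2) (by omega) _ (by omega) (nd_inf hB hC hSC hSN) (by omega) _ h6 h5
    have h9 := mul_mem (inv_mem hh) (mul_mem (inv_mem hk) (TC_mono inf_le_left h8))
    rwa [show h⁻¹ * (k⁻¹ * (k * (h * g))) = g by group] at h9
  · -- an anisotropic vector
    have h5 : 5 ≤ d := by
      rcases Nat.lt_or_ge d 5 with h | h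
      · exfalso
        apply hev
        have : d = 4 := by omega
        rw [this]
        decide
      · exact h
    obtain ⟨a, haC, ha⟩ := exists_aniso_nd hB hC (by omega)
    obtain ⟨h, hh, hha⟩ := trans_aniso hB hC (by omega) (mem_of_FixG hB hg haC) haC (by rw [hg.1]; exact ha) (by rw [hg.1])
    have h1 : h * g ∈ FixG B C := mul_mem (TC_le_FixG hB hh) hg
    have hSC := span_one_le haC
    have hSN := nd_span_one hB ha
    have h6 := FixG_inf hB hC hSC hSN h1 (fun s hs => by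
      obtain ⟨c, rfl⟩ := Submodule.mem_span_singleton.1 hs
      rw [ap_smul, ap_mul, hha])
    have h7 := finrank_inf_prp hB hC hSC
    rw [finrank_span_self (ne_zero_of_aniso ha)] at h7
    have h8 := ih (d - 1) (by omega) _ (by omega) (nd_inf hB hC hSC hSN) (by omega) _ h6 (mul_mem (TC_le_SL hh) hS)
    have h9 := mul_mem (inv_mem hh) (TC_mono inf_le_left h8)
    rwa [inv_mul_cancel_left] at h9

end Cfsg.Agent.H7.UTv
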