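import Cfsg.Agent.H7.SUGen

set_option autoImplicit false
set_option linter.unusedSectionVars false

/-! Special unitary groups: Eichler elements, generation in dimension three, normal subgroups. -/

namespace Cfsg.Agent.H7.UTv

open Module Matrix Cfsg Cfsg.Agent.H7.Tv Cfsg.Agent.H7.Witt

variable {ι : Type} [Fintype ι] [DecidableEq ι] {F : Type*} [Field F] [Finite F]
variable {σ : F →+* F} {B : (ι → F) →ₛₗ[σ] (ι → F) →ₗ[F] F}

/-- the special unitary group -/
def SUn (B : (ι → F) →ₛₗ[σ] (ι → F) →ₗ[F] F) : Subgroup (GL ι F) where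
  carrier := {g | Isom B g ∧ g ∈ Geo.specialLinear ι F}
  mul_mem' := by
    rintro a b ⟨ha, ha'⟩ ⟨hb, hb'⟩
    exact ⟨ha.mul hb, mul_mem ha' hb'⟩
  one_mem' := ⟨Isom.one, one_mem _⟩
  inv_mem' := by
    rintro a ⟨ha, ha'⟩
    exact ⟨ha.inv, inv_mem ha'⟩

/-- Eichler elements -/
def IsEi (B : (ι → F) →ₛₗ[σ] (ι → F) →ₗ[F] F) (g : GL ι F) (e w : ι → F) (γ : F) : Prop :=
  ∀ x, ap g x = x + B e x • w - B w x • e + (γ * B e x) • e

theorem exists_ei (hB : Hm B) {e w : ι → F} (he : B e e = 0) (hw : B e w = 0) {γ : F} (hγ : γ + σ γ + B w w = 0) :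
    ∃ g ∈ SUn B, IsEi B g e w γ := by
  obtain ⟨T1, hT1⟩ := exists_tv (u := w) (l := B e) hw
  have hwe := hB.zero_swap hw
  obtain ⟨T2, hT2⟩ := exists_tv (u := e) (l := (γ + B w w) • B e - B w) (by
    rw [LinearMap.sub_apply, LinearMap.smul_apply, he, hwe, smul_zero, sub_zero])
  have hap : IsEi B (T2 * T1) e w γ := by
    intro x
    rw [ap_mul, hT1, hT2]
    simp only [LinearMap.sub_apply, LinearMap.smul_apply, map_add, map_smul, smul_eq_mul, hw, mul_zero, add_zero]
    module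
  refine ⟨T2 * T1, ⟨?_, mul_mem (IsTv.mem_SL (by
    rw [LinearMap.sub_apply, LinearMap.smul_apply, he, hwe, smul_zero, sub_zero]) hT2) (IsTv.mem_SL hw hT1)⟩, hap⟩
  intro x y
  rw [hap, hap]
  simp only [map_add, map_sub, LinearMap.add_apply, LinearMap.sub_apply, map_smul, LinearMap.map_smulₛₗ,
    LinearMap.smul_apply, smul_eq_mul, he, hw, hwe, mul_zero, add_zero, sub_zero, map_mul]
  rw [hB.symm e x, hB.symm w x]
  linear_combination (B x e * B e y) * hγ

theorem ei_mul (hB : Hm B) {e w w' : ι → F} (he : B e e = 0) (hw : B e w = 0) (hw' : B e w' = 0) {γ γ' : F} {g g' : GL ι F}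
    (hg : IsEi B g e w γ) (hg' : IsEi B g' e w' γ') : IsEi B (g * g') e (w + w') (γ + γ' - B w w') := by
  intro x
  rw [ap_mul, hg', hg]
  simp only [map_add, map_sub, LinearMap.add_apply, map_smul, smul_eq_mul, he, hw, hw', hB.zero_swap hw, mul_zero, add_zero,
    sub_zero]
  module

theorem ei_unique {e w : ι → F} {γ : F} {g g' : GL ι F} (hg : IsEi B g e w γ) (hg' : IsEi B g' e w γ) : g = g' := by
  apply ap_ext
  intro x
  rw [hg, hg']

/-- a transvection is a commutator -/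
theorem utv_comm (hB : Hm B) (h3 : 3 ≤ Fintype.card ι) {e : ι → F} (he : B e e = 0) {c : F} (hc : c + σ c = 0)
    {g : GL ι F} (hg : IsTv g e (c • B e)) : ∃ a ∈ SUn B, ∃ b ∈ SUn B, g = a * b * a⁻¹ * b⁻¹ := by
  obtain ⟨w, hw, hww⟩ : ∃ w, B e w = 0 ∧ B w w ≠ 0 := by
    by_cases he0 : e = 0
    · obtain ⟨a, -, ha⟩ := exists_aniso_nd hB (C := ⊤) (fun x _ h => hB.nd' x (fun u => h u trivial))
        (by rw [finrank_top, finrank_fintype_fun_eq_card]; omega)
      exact ⟨a, by rw [he0, map_zero, LinearMap.zero_apply], ha⟩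
    · have hT : Nd B ⊤ := fun x _ h => hB.nd' x (fun u => h u trivial)
      obtain ⟨f, -, hf, hef⟩ := exists_partner hB hT trivial he0 he
      have h1 := finrank_inf_prp hB hT (U := Submodule.span F {e, f}) le_top
      rw [finrank_span_hyp hB he hf hef, finrank_top, finrank_fintype_fun_eq_card] at h1
      obtain ⟨w, hw, hw'⟩ := exists_aniso_nd hB (nd_inf hB hT le_top (nd_span_two hB he hf hef)) (by omega)
      exact ⟨w, (mem_prp_two.1 hw.2).1, hw'⟩
  obtain ⟨t, ht⟩ := hB.exists_tr 1 (map_one σ)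
  obtain ⟨γ, hγ⟩ := hB.exists_tr (-(B w w)) (by rw [map_neg, hB.self_fixed])
  have hσw := hB.self_fixed w
  -- the second vector
  obtain ⟨s, hs⟩ : ∃ s, s = -(c * (B w w)⁻¹) * t := ⟨_, rfl⟩
  have hσc : σ c = -c := by rw [eq_neg_iff_add_eq_zero, add_comm]; exact hc
  have hs2 : (σ s - s) * B w w = c := by
    rw [hs, map_mul, map_neg, map_mul, map_inv₀, hσw, hσc]
    have h1 : (-(-c * (B w w)⁻¹) * σ t - -(c * (B w w)⁻¹) * t) * B w w = c * (t + σ t) * ((B w w)⁻¹ * B w w) := by ring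
    rw [h1, ht, inv_mul_cancel₀ hww, mul_one, mul_one]
  obtain ⟨γ', hγ'⟩ := hB.exists_tr (-(B (s • w) (s • w))) (by rw [map_neg, hB.self_fixed])
  have hw' : B e (s • w) = 0 := by rw [map_smul, hw, smul_zero]
  obtain ⟨a, haS, ha⟩ := exists_ei hB he hw (γ := γ) (by rw [hγ, neg_add_cancel])
  obtain ⟨b, hbS, hb⟩ := exists_ei hB he hw' (γ := γ') (by rw [hγ', neg_add_cancel])
  refine ⟨a, haS, b, hbS, ?_⟩
  rw [eq_mul_inv_iff_mul_eq, eq_mul_inv_iff_mul_eq]
  have h1 := ei_mul hB he hw hw' ha hb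
  have h2 := ei_mul hB he hw' hw hb ha
  have hg' : IsEi B g e 0 c := by
    intro x
    rw [hg, map_zero, LinearMap.zero_apply, zero_smul, smul_zero, add_zero, sub_zero, LinearMap.smul_apply, smul_eq_mul]
  have h3 := ei_mul hB he (map_zero _) (by rw [map_add, hw', hw, add_zero]) hg' h2
  rw [mul_assoc]
  refine ei_unique h3 ?_
  have e1 : (0 : ι → F) + (s • w + w) = w + s • w := by rw [zero_add, add_comm]
  have e2 : c + (γ' + γ - B (s • w) w) - B 0 (s • w + w) = γ + γ' - B w (s • w) := by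
    rw [map_zero, LinearMap.zero_apply, LinearMap.map_smulₛₗ, LinearMap.smul_apply, map_smul, smul_eq_mul, smul_eq_mul]
    linear_combination -hs2
  rw [e1, e2]
  exact h1

theorem TC_le_SUn (hB : Hm B) : TC B ⊤ ≤ SUn B := fun _ hg => ⟨(TC_le_FixG hB hg).1, TC_le_SL hg⟩

theorem nd_top (hB : Hm B) : Nd B ⊤ := fun x _ h => hB.nd' x (fun u => h u trivial)

/-- generation in dimension three -/
theorem gen_three (hB : Hm B) (h3 : Fintype.card ι = 3) {l : F} (hl : σ l = l) (hl0 : l ≠ 0) (hl1 : l ≠ 1) :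
    SUn B ≤ TC B ⊤ := by
  intro g hg
  have hT := nd_top hB
  have hd : finrank F (⊤ : Submodule F (ι → F)) = 3 := by rw [finrank_top, finrank_fintype_fun_eq_card, h3]
  obtain ⟨e, -, f, -, he, hf, hef⟩ := exists_hyp hB hT (by omega)
  have hfe : B f e = 1 := by rw [← hB.symm, hef, map_one]
  have he0 : e ≠ 0 := by
    rintro rfl
    rw [map_zero, LinearMap.zero_apply] at hef
    exact one_ne_zero hef.symm
  obtain ⟨h, hh, hhe⟩ := trans_iso hB hT (by omega) (x := ap g e) (y := e) trivial trivial (by rw [hg.1, he]) he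
    (fun h0 => he0 (ap_eq_zero.1 h0)) he0
  have h1 : h * g ∈ SUn B := mul_mem (TC_le_SUn hB hh) hg
  suffices hs : h * g ∈ TC B ⊤ by
    have := mul_mem (inv_mem hh) hs
    rwa [inv_mul_cancel_left] at this
  have h2 : ap (h * g) e = e := by rw [ap_mul, hhe]
  generalize h * g = k at h1 h2
  -- the decomposition
  have hS := finrank_inf_prp hB hT (U := Submodule.span F {e, f}) le_top
  rw [finrank_span_hyp hB he hf hef, hd] at hS
  obtain ⟨w, hw, hww⟩ := exists_aniso_nd hB (nd_inf hB hT le_top (nd_span_two hB he hf hef)) (by omega)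
  obtain ⟨hew, hfw⟩ := mem_prp_two.1 hw.2
  have hwe := hB.zero_swap hew
  have hwf := hB.zero_swap hfw
  have hdec : ∀ z, B e z = 0 → B f z = 0 → ∃ m : F, z = m • w := by
    intro z hz1 hz2
    have h4 : (⊤ : Submodule F (ι → F)) ⊓ prp B (Submodule.span F {e, f}) = Submodule.span F {w} := by
      symm
      apply Submodule.eq_of_le_of_finrank_eq (span_one_le hw)
      rw [finrank_span_self (ne_zero_of_aniso hww)]
      omega
    have h5 : z ∈ (⊤ : Submodule F (ι → F)) ⊓ prp B (Submodule.span F {e, f}) := ⟨trivial, mem_prp_two.2 ⟨hz1, hz2⟩⟩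
    rw [h4] at h5
    obtain ⟨m, hm⟩ := Submodule.mem_span_singleton.1 h5
    exact ⟨m, hm.symm⟩
  -- the image of `f`
  obtain ⟨s, hs⟩ : ∃ s, s = ap k f - f - B f (ap k f - f) • e := ⟨_, rfl⟩
  have h5 : B e (ap k f) = 1 := by
    nth_rewrite 1 [← h2]
    rw [h1.1, hef]
  have hse : B e s = 0 := by
    rw [hs, map_sub, map_sub, map_smul, he, smul_zero, sub_zero, h5, hef, sub_self]
  have hsf : B f s = 0 := by
    rw [hs, map_sub, map_smul, hfe, smul_eq_mul, mul_one, sub_self]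
  -- the torus element
  obtain ⟨D1, hD1⟩ := exists_gtv (u := e) (l := (l - 1) • B f) (by
    rw [LinearMap.smul_apply, hfe, smul_eq_mul, mul_one, add_sub_cancel]; exact hl0)
  obtain ⟨D2, hD2⟩ := exists_gtv (u := f) (l := (l⁻¹ - 1) • B e) (by
    rw [LinearMap.smul_apply, hef, smul_eq_mul, mul_one, add_sub_cancel]; exact inv_ne_zero hl0)
  have ht : ∀ x, ap (D1 * D2) x = x + ((l - 1) * B f x) • e + ((l⁻¹ - 1) * B e x) • f := by
    intro x
    rw [ap_mul, hD2, hD1]
    simp only [LinearMap.smul_apply, map_add, map_smul, smul_eq_mul, hf, mul_zero, add_zero]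
    abel
  have htI : Isom B (D1 * D2) := by
    intro x y
    rw [ht, ht]
    simp only [map_add, LinearMap.add_apply, map_smul, LinearMap.map_smulₛₗ, LinearMap.smul_apply, smul_eq_mul, he, hf, hef,
      hfe, mul_zero, add_zero, zero_add, mul_one, map_mul, map_sub, map_inv₀, hl, map_one]
    rw [hB.symm, hB.symm]
    field_simp
    ring
  have htS : D1 * D2 ∈ Geo.specialLinear ι F := by
    rw [mem_SL_iff', det_mul_lin, det_of_tv hD1, det_of_tv hD2]
    simp only [LinearMap.smul_apply, hef, hfe, smul_eq_mul, mul_one]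
    field_simp
    ring
  have htT : D1 * D2 ∈ TC B ⊤ := by
    apply TC_mono (C := Submodule.span F {e, f}) le_top
    refine gen_two hB (nd_span_two hB he hf hef) (finrank_span_hyp hB he hf hef) ⟨htI, fun z hz => ?_⟩ htS
    obtain ⟨hz1, hz2⟩ := mem_prp_two.1 hz
    rw [ht, hz1, hz2, mul_zero, mul_zero, zero_smul, zero_smul, add_zero, add_zero]
  generalize D1 * D2 = T at ht htI htS htT
  -- the Eichler element
  have hl' : l⁻¹ - 1 ≠ 0 := by
    intro h
    apply hl1
    have h6 := sub_eq_zero.1 h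
    rw [← inv_inv l, h6, inv_one]
  obtain ⟨w', hw'⟩ : ∃ w', w' = (l⁻¹ - 1)⁻¹ • s := ⟨_, rfl⟩
  have hsw' : s = (l⁻¹ - 1) • w' := by rw [hw', smul_smul, mul_inv_cancel₀ hl', one_smul]
  have hew' : B e w' = 0 := by rw [hw', map_smul, hse, smul_zero]
  have hfw' : B f w' = 0 := by rw [hw', map_smul, hsf, smul_zero]
  obtain ⟨γ, hγ⟩ := hB.exists_tr (-(B w' w')) (by rw [map_neg, hB.self_fixed])
  obtain ⟨E, hES, hE⟩ := exists_ei hB he hew' (γ := γ) (by rw [hγ, neg_add_cancel])
  -- the commutator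
  have hcT : T⁻¹ * (E * T * E⁻¹) ∈ TC B ⊤ := mul_mem (inv_mem htT) (TC_conj hB hES.1 (fun _ _ => trivial) htT)
  have hEe : ap E e = e := by
    rw [hE, he, hB.zero_swap hew', mul_zero, zero_smul, zero_smul, add_zero, sub_zero, add_zero]
  have hTe : ap T e = l • e := by
    rw [ht, he, hfe, mul_zero, zero_smul, add_zero, mul_one]
    module
  have hce : ap (T⁻¹ * (E * T * E⁻¹)) e = e := by
    have h6 : ap E⁻¹ e = e := by
      apply ap_injective E
      rw [ap_ap_inv, hEe]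
    rw [ap_mul, ap_mul, ap_mul, h6, hTe, ap_smul, hEe, ← hTe, ap_inv_ap]
  have hcf : ∃ m : F, ap (T⁻¹ * (E * T * E⁻¹)) f = f + s + m • e := by
    have hTf : ap T f = l⁻¹ • f := by
      rw [ht, hf, hef, mul_zero, zero_smul, add_zero, mul_one]
      module
    have hTw : ap T w' = w' := by
      rw [ht, hew', hfw', mul_zero, mul_zero, zero_smul, zero_smul, add_zero, add_zero]
    have hEf : ap E f = f + w' + γ • e := by
      rw [hE, hef, hB.zero_swap hfw', zero_smul, sub_zero, one_smul, mul_one]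
    have hEw : ap E w' = w' - B w' w' • e := by
      rw [hE, hew', mul_zero, zero_smul, zero_smul, add_zero, add_zero]
    -- solve for the preimage
    have h6 : ap E⁻¹ f = f - w' - (γ + B w' w') • e := by
      apply ap_injective E
      rw [ap_ap_inv, ap_sub, ap_sub, ap_smul, hEf, hEw, hEe]
      module
    have h7 : ap (E * T * E⁻¹) f = l⁻¹ • f + (l⁻¹ - 1) • w' + (l⁻¹ * γ + B w' w' - l * (γ + B w' w')) • e := by
      rw [ap_mul, ap_mul, h6]
      simp only [ap_sub, ap_smul, hTf, hTw, hTe, hEf, hEw, hEe]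
      module
    refine ⟨(l⁻¹ * γ + B w' w' - l * (γ + B w' w')) * l⁻¹, ?_⟩
    apply ap_injective T
    rw [ap_mul, ap_ap_inv, h7, ap_add, ap_add, ap_smul, hTf, hsw', ap_smul, hTw, hTe, smul_smul, mul_assoc,
      inv_mul_cancel₀ hl0, mul_one]
  obtain ⟨m, hcf⟩ := hcf
  generalize T⁻¹ * (E * T * E⁻¹) = c at hcT hce hcf
  -- the quotient is a transvection
  have hcS := TC_le_SUn hB hcT
  obtain ⟨a, ha⟩ : ∃ a, a = B f (ap k f - f) := ⟨_, rfl⟩
  have hkf : ap k f = f + s + a • e := by rw [hs, ← ha]; abel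
  have hse' := hB.zero_swap hse
  have hsf' := hB.zero_swap hsf
  have e1 : ∀ x : F, B (f + s + x • e) (f + s + x • e) = B s s + (x + σ x) := by
    intro x
    simp only [map_add, LinearMap.add_apply, map_smul, LinearMap.map_smulₛₗ, LinearMap.smul_apply, smul_eq_mul, hf, hsf, hsf',
      hfe, hef, hse, hse', he]
    ring
  have e2 := e1 a
  rw [← hkf, h1.1, hf] at e2
  have e3 := e1 m
  rw [← hcf, hcS.1, hf] at e3
  obtain ⟨U, hU⟩ := exists_utv he (a - m)
  have hUT : U ∈ TC B ⊤ := uc_TC Submodule.mem_top he (a - m) (by rw [map_sub]; linear_combination e3 - e2) U hU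
  have hUS := TC_le_SUn hB hUT
  have hUe : ap U e = e := by rw [hU, LinearMap.smul_apply, he, smul_zero, zero_smul, add_zero]
  have hUcf : ap (U * c) f = ap k f := by
    rw [ap_mul, hcf, hU, hkf]
    simp only [map_add, LinearMap.smul_apply, map_smul, hef, hse, he, smul_zero, add_zero, smul_eq_mul, mul_one]
    module
  -- `k = U c`
  have hfin : (U * c)⁻¹ * k = 1 := by
    have hkS : (U * c)⁻¹ * k ∈ SUn B := mul_mem (inv_mem (mul_mem hUS hcS)) h1
    have hk1 : ap ((U * c)⁻¹ * k) e = e := by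
      have : ap (U * c) e = e := by rw [ap_mul, hce, hUe]
      rw [ap_mul, h2]
      nth_rewrite 1 [← this]
      rw [ap_inv_ap]
    have hk2 : ap ((U * c)⁻¹ * k) f = f := by
      rw [ap_mul, ← hUcf, ap_inv_ap]
    generalize (U * c)⁻¹ * k = r at hkS hk1 hk2
    have hrw : ∃ μ : F, ap r w = μ • w := by
      apply hdec
      · nth_rewrite 1 [← hk1]
        rw [hkS.1, hew]
      · nth_rewrite 1 [← hk2]
        rw [hkS.1, hfw]
    obtain ⟨μ, hμ⟩ := hrw
    have hμ1 : μ ≠ 0 := by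
      rintro rfl
      rw [zero_smul] at hμ
      exact ne_zero_of_aniso hww (ap_eq_zero.1 hμ)
    obtain ⟨D, hD⟩ := exists_gtv (u := w) (l := ((μ - 1) * (B w w)⁻¹) • B w) (by
      rw [LinearMap.smul_apply, smul_eq_mul, mul_assoc, inv_mul_cancel₀ hww, mul_one, add_sub_cancel]
      exact hμ1)
    have hrD : r = D := by
      apply ext_hyp hB he hf hef
      · rw [hk1, hD, LinearMap.smul_apply, hwe, smul_zero, zero_smul, add_zero]
      · rw [hk2, hD, LinearMap.smul_apply, hwf, smul_zero, zero_smul, add_zero]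
      · intro z hz1 hz2
        obtain ⟨m', rfl⟩ := hdec z hz1 hz2
        rw [ap_smul, ap_smul, hμ, hD, LinearMap.smul_apply, smul_eq_mul, mul_assoc, inv_mul_cancel₀ hww, mul_one]
        module
    have hdet := (mem_SL_iff' r).1 hkS.2
    rw [hrD, det_of_tv hD, LinearMap.smul_apply, smul_eq_mul, mul_assoc, inv_mul_cancel₀ hww, mul_one, add_sub_cancel] at hdet
    rw [hrD]
    apply ap_ext
    intro x
    rw [hD, hdet, sub_self, zero_mul, zero_smul, LinearMap.zero_apply, zero_smul, add_zero, ap_one]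
  have : k = U * c := by
    rw [inv_mul_eq_one] at hfin
    exact hfin.symm
  rw [this]
  exact mul_mem hUT hcT

theorem SUn_eq_TC (hB : Hm B) (h : 4 ≤ Fintype.card ι ∨ (Fintype.card ι = 3 ∧ ∃ l : F, σ l = l ∧ l ≠ 0 ∧ l ≠ 1)) :
    SUn B = TC B ⊤ := by
  apply le_antisymm _ (TC_le_SUn hB)
  rcases h with h | ⟨h, l, h1, h2, h3⟩
  · intro g hg
    refine gen hB (Fintype.card ι) ⊤ (by rw [finrank_top, finrank_fintype_fun_eq_card]) (nd_top hB) (Or.inr h) g ⟨hg.1, ?_⟩ hg.2
    intro z hz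
    have : z = 0 := hB.nd' z (fun u => hz u trivial)
    rw [this, show ap g (0 : ι → F) = 0 from map_zero (lin g)]
  · exact gen_three hB h h1 h2 h3

theorem trans_hyp' (hB : Hm B) {e f f' : ι → F} (he : B e e = 0) (hf : B f f = 0) (hf' : B f' f' = 0) (hef : B e f = 1)
    (hef' : B e f' = 1) : ∃ g ∈ SUn B, ap g e = e ∧ ap g f = f' := by
  have hfe : B f e = 1 := by rw [← hB.symm, hef, map_one]
  obtain ⟨a, ha⟩ : ∃ a, a = B f (f' - f) := ⟨_, rfl⟩
  obtain ⟨s, hs⟩ : ∃ s, s = f' - f - a • e := ⟨_, rfl⟩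
  have hse : B e s = 0 := by rw [hs, map_sub, map_sub, map_smul, he, hef, hef', smul_zero, sub_self, sub_zero]
  have hsf : B f s = 0 := by rw [hs, map_sub, ← ha, map_smul, hfe, smul_eq_mul, mul_one, sub_self]
  have hse' := hB.zero_swap hse
  have hsf' := hB.zero_swap hsf
  have hf'eq : f' = f + s + a • e := by rw [hs]; abel
  have e1 : B (f + s + a • e) (f + s + a • e) = B s s + (a + σ a) := by
    simp only [map_add, LinearMap.add_apply, map_smul, LinearMap.map_smulₛₗ, LinearMap.smul_apply, smul_eq_mul, hf, hsf, hsf',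
      hfe, hef, hse, hse', he]
    ring
  rw [← hf'eq, hf'] at e1
  obtain ⟨g, hg, hE⟩ := exists_ei hB he hse (γ := a) (by linear_combination -e1)
  refine ⟨g, hg, ?_, ?_⟩
  · rw [hE, he, hse', mul_zero, zero_smul, zero_smul, add_zero, sub_zero, add_zero]
  · rw [hE, hef, hsf', zero_smul, sub_zero, one_smul, mul_one, ← hf'eq]

/-- transitivity on pairs of nonorthogonal points -/
theorem trans_pairs (hB : Hm B) (h3 : 3 ≤ Fintype.card ι) {a b x y : ι → F} (ha : B a a = 0) (hb : B b b = 0)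
    (hab : B a b ≠ 0) (hx : B x x = 0) (hy : B y y = 0) (hxy : B x y ≠ 0) :
    ∃ t ∈ SUn B, ap t a = x ∧ ∃ l : F, l ≠ 0 ∧ ap t b = l • y := by
  have ha0 : a ≠ 0 := by rintro rfl; rw [map_zero, LinearMap.zero_apply] at hab; exact hab rfl
  have hx0 : x ≠ 0 := by rintro rfl; rw [map_zero, LinearMap.zero_apply] at hxy; exact hxy rfl
  obtain ⟨g, hg, hga⟩ := trans_iso hB (nd_top hB) (by rw [finrank_top, finrank_fintype_fun_eq_card]; exact h3)
    (x := a) (y := x) trivial trivial ha hx ha0 hx0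
  have hgS := TC_le_SUn hB hg
  have h1 : B x (ap g b) = B a b := by rw [← hga, hgS.1]
  obtain ⟨h, hh, hhx, hhb⟩ := trans_hyp' hB (e := x) (f := (B a b)⁻¹ • ap g b) (f' := (B x y)⁻¹ • y) hx
    (by rw [map_smul, LinearMap.map_smulₛₗ, LinearMap.smul_apply, hgS.1, hb, smul_zero, smul_zero])
    (by rw [map_smul, LinearMap.map_smulₛₗ, LinearMap.smul_apply, hy, smul_zero, smul_zero])
    (by rw [map_smul, h1, smul_eq_mul, inv_mul_cancel₀ hab]) (by rw [map_smul, smul_eq_mul, inv_mul_cancel₀ hxy])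
  refine ⟨h * g, mul_mem hh hgS, by rw [ap_mul, hga, hhx], B a b * (B x y)⁻¹, mul_ne_zero hab (inv_ne_zero hxy), ?_⟩
  have h4 : ap g b = B a b • ((B a b)⁻¹ • ap g b) := by rw [smul_smul, mul_inv_cancel₀ hab, one_smul]
  rw [ap_mul, h4, ap_smul, hhb, smul_smul]

end Cfsg.Agent.H7.UTv
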