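import Cfsg.Agent.H7.Uni
import Cfsg.Agent.H7.OrthSimple

set_option autoImplicit false
set_option linter.unusedSectionVars false

/-! Normal subgroups of special unitary groups. -/

namespace Cfsg.Agent.H7.UTv

open Module Matrix Cfsg Cfsg.Agent.H7.Tv Cfsg.Agent.H7.Witt

variable {ι : Type} [Fintype ι] [DecidableEq ι] {F : Type*} [Field F] [Finite F]
variable {σ : F →+* F} {B : (ι → F) →ₛₗ[σ] (ι → F) →ₗ[F] F}

theorem exists_nonorth (hB : Hm B) (h3 : 3 ≤ Fintype.card ι) {g : GL ι F} (hg : Isom B g) {y : ι → F} (hy : B y y = 0)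
    (hgy : ap g y ∉ Submodule.span F {y}) : ∃ a, B a a = 0 ∧ B a (ap g a) ≠ 0 := by
  by_contra hcon
  push Not at hcon
  have key : ∀ x y, B x x = 0 → B y y = 0 → B x y = 0 → B x (ap g y) = 0 := by
    intro x y hx hy hxy
    have h1 : ∀ c : F, c * B x (ap g y) + σ c * B y (ap g x) = 0 := by
      intro c
      have h2 := hcon (x + c • y) (by
        simp only [map_add, LinearMap.add_apply, map_smul, LinearMap.map_smulₛₗ, LinearMap.smul_apply, hx, hy, hxy,
          hB.zero_swap hxy, smul_zero, add_zero])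
      rw [ap_add, ap_smul] at h2
      simp only [map_add, LinearMap.add_apply, map_smul, LinearMap.map_smulₛₗ, LinearMap.smul_apply, smul_eq_mul,
        hcon x hx, hcon y hy] at h2
      linear_combination h2
    obtain ⟨c, hc⟩ : ∃ c, σ c ≠ c := by
      by_contra hcon'
      push Not at hcon'
      exact hB.ne (RingHom.ext hcon')
    have h2 := h1 1
    have h4 := h1 c
    rw [map_one] at h2
    have h5 : (c - σ c) * B x (ap g y) = 0 := by linear_combination h4 - σ c * h2
    exact (mul_eq_zero.1 h5).resolve_left (sub_ne_zero.2 (Ne.symm hc))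
  have hy0 : y ≠ 0 := by
    rintro rfl
    apply hgy
    rw [ap_zero]
    exact zero_mem _
  have hT := nd_top hB
  obtain ⟨f, -, hf, hyf⟩ := exists_partner hB hT trivial hy0 hy
  have hfy : B f y = 1 := by rw [← hB.symm, hyf, map_one]
  have hS := finrank_inf_prp hB hT (U := Submodule.span F {y, f}) le_top
  rw [finrank_span_hyp hB hy hf hyf, finrank_top, finrank_fintype_fun_eq_card] at hS
  have hD := nd_inf hB hT le_top (nd_span_two hB hy hf hyf)
  obtain ⟨a, ha⟩ : ∃ a, a = B f (ap g y) := ⟨_, rfl⟩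
  obtain ⟨s, hs⟩ : ∃ s, s = ap g y - a • y := ⟨_, rfl⟩
  have hys : B y s = 0 := by rw [hs, map_sub, map_smul, hy, smul_zero, sub_zero]; exact hcon y hy
  have hfs : B f s = 0 := by rw [hs, map_sub, ← ha, map_smul, hfy, smul_eq_mul, mul_one, sub_self]
  have hsD : s ∈ (⊤ : Submodule F (ι → F)) ⊓ prp B (Submodule.span F {y, f}) := ⟨trivial, mem_prp_two.2 ⟨hys, hfs⟩⟩
  have hgys : ap g y = a • y + s := by rw [hs]; abel
  have hss : B s s = 0 := by
    have h1 := hg y y
    rw [hy, hgys] at h1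
    simp only [map_add, LinearMap.add_apply, map_smul, LinearMap.map_smulₛₗ, LinearMap.smul_apply, smul_eq_mul, hy, hys,
      hB.zero_swap hys, mul_zero, zero_add, add_zero] at h1
    exact h1
  have hs0 : s = 0 := by
    apply hD s hsD
    intro z hz
    by_cases h4 : Fintype.card ι = 3
    · obtain ⟨w, hw, hww⟩ := exists_aniso_nd hB hD (by omega)
      have h5 : Submodule.span F {w} = (⊤ : Submodule F (ι → F)) ⊓ prp B (Submodule.span F {y, f}) := by
        apply Submodule.eq_of_le_of_finrank_eq (span_one_le hw)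
        rw [finrank_span_self (ne_zero_of_aniso hww)]
        omega
      have h6 := hsD
      rw [← h5] at h6
      obtain ⟨m, hm⟩ := Submodule.mem_span_singleton.1 h6
      rw [← hm] at hss ⊢
      simp only [map_smul, LinearMap.map_smulₛₗ, LinearMap.smul_apply, smul_eq_mul] at hss
      have : m = 0 := by
        rcases mul_eq_zero.1 hss with h7 | h7
        · exact h7
        · exact (map_eq_zero σ).1 ((mul_eq_zero.1 h7).resolve_right hww)
      rw [this, zero_smul, map_zero]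
    · refine iso_induction hB hD (by omega) (fun z => B z s = 0) ?_ ?_ hz
      · intro z hz hzz
        have h5 := key z y hzz hy (hB.zero_swap (mem_prp_two.1 hz.2).1)
        rw [hgys, map_add, map_smul, hB.zero_swap (mem_prp_two.1 hz.2).1, smul_zero, zero_add] at h5
        exact h5
      · intro z _ t _ h5 h6
        rw [map_add, LinearMap.add_apply, h5, h6, add_zero]
  apply hgy
  rw [hgys, hs0, add_zero]
  exact Submodule.smul_mem _ _ (Submodule.mem_span_singleton_self y)

theorem exists_both' (hB : Hm B) {x y : ι → F} (hx : B x x = 0) (hy : B y y = 0) (hxy : B x y = 0)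
    (hx0 : x ≠ 0) (hy0 : y ≠ 0) : ∃ z, B z z = 0 ∧ B x z ≠ 0 ∧ B z y ≠ 0 := by
  have hC := nd_top hB
  by_cases hli : ∃ c : F, y = c • x
  · obtain ⟨c, rfl⟩ := hli
    obtain ⟨z, hz, hz1, hz2⟩ := exists_partner hB hC trivial hx0 hx
    refine ⟨z, hz1, by rw [hz2]; exact one_ne_zero, ?_⟩
    have h1 : B z x = 1 := by rw [← hB.symm, hz2, map_one]
    rw [map_smul, h1, smul_eq_mul, mul_one]
    rintro rfl
    rw [zero_smul] at hy0
    exact hy0 rfl
  · have hind : ∀ a b : F, a • x + b • y = 0 → a = 0 ∧ b = 0 := by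
      intro a b hab
      have hb : b = 0 := by
        by_contra hb
        apply hli
        refine ⟨-(b⁻¹ * a), ?_⟩
        have h3 : b • y = -(a • x) := by rw [eq_neg_iff_add_eq_zero, add_comm]; exact hab
        have h4 : y = b⁻¹ • (b • y) := by rw [smul_smul, inv_mul_cancel₀ hb, one_smul]
        rw [h4, h3, smul_neg, smul_smul, neg_smul]
      subst hb
      rw [zero_smul, add_zero] at hab
      exact ⟨(smul_eq_zero.1 hab).resolve_right hx0, rfl⟩
    obtain ⟨z, hz, hz1, hz2⟩ := exists_pair hB hC (x := x) (y := y) trivial trivial hind 1 1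
    obtain ⟨t, ht1, ht2⟩ := iso_add hB hx hz1
    refine ⟨_, ht1, by rw [ht2]; exact one_ne_zero, ?_⟩
    rw [map_add, LinearMap.add_apply, LinearMap.map_smulₛₗ, LinearMap.smul_apply, hxy, smul_zero, add_zero, ← hB.symm, hz2,
      map_one]
    exact one_ne_zero

theorem su_normal_trans (hB : Hm B) (h3 : 3 ≤ Fintype.card ι) {N : Subgroup (GL ι F)}
    (hNn : ∀ t ∈ SUn B, ∀ g ∈ N, t * g * t⁻¹ ∈ N) {g : GL ι F} (hg : g ∈ N) (hgS : Isom B g) {a : ι → F} (ha : B a a = 0)
    (hga : B a (ap g a) ≠ 0) {x y : ι → F} (hx : B x x = 0) (hy : B y y = 0) (hx0 : x ≠ 0) (hy0 : y ≠ 0) :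
    ∃ h ∈ N, ∃ l : F, l ≠ 0 ∧ ap h x = l • y := by
  have key : ∀ x y, B x x = 0 → B y y = 0 → B x y ≠ 0 → ∃ h ∈ N, ∃ l : F, l ≠ 0 ∧ ap h x = l • y := by
    intro x y hx hy hxy
    obtain ⟨t, ht, h1, l, hl, h2⟩ := trans_pairs hB h3 ha (by rw [hgS, ha]) hga hx hy hxy
    refine ⟨t * g * t⁻¹, hNn t ht g hg, l, hl, ?_⟩
    rw [ap_mul, ap_mul, ← h1, ap_inv_ap, h2]
  by_cases hxy : B x y = 0
  · obtain ⟨z, hz, h1, h2⟩ := exists_both' hB hx hy hxy hx0 hy0
    obtain ⟨h, hh, l, hl, e⟩ := key x z hx hz h1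
    obtain ⟨h', hh', l', hl', e'⟩ := key z y hz hy h2
    exact ⟨h' * h, mul_mem hh' hh, l * l', mul_ne_zero hl hl', by rw [ap_mul, e, ap_smul, e', smul_smul]⟩
  · exact key x y hx hy hxy

theorem SUn_perfect (hB : Hm B) (h3 : 3 ≤ Fintype.card ι) (hgen : SUn B = TC B ⊤) : SUn B ≤ ⁅SUn B, SUn B⁆ := by
  conv_lhs => rw [hgen]
  rw [TC_le_iff]
  intro u _ hu0 c hc g hg
  obtain ⟨a, ha, b, hb, hab⟩ := utv_comm hB h3 hu0 hc hg
  rw [hab]
  exact Subgroup.commutator_mem_commutator ha hb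

theorem su_normal (hB : Hm B) (h3 : 3 ≤ Fintype.card ι) (hgen : SUn B = TC B ⊤) {N : Subgroup (GL ι F)}
    (hNS : N ≤ SUn B) (hNn : ∀ t ∈ SUn B, ∀ g ∈ N, t * g * t⁻¹ ∈ N) {g : GL ι F} (hg : g ∈ N) {y : ι → F} (hy : B y y = 0)
    (hgy : ap g y ∉ Submodule.span F {y}) : SUn B ≤ N := by
  obtain ⟨a, ha, hga⟩ := exists_nonorth hB h3 (hNS hg).1 hy hgy
  have ha0 : a ≠ 0 := by rintro rfl; rw [map_zero, LinearMap.zero_apply] at hga; exact hga rfl
  have htv_mul : ∀ {c c' : F} {g g' : GL ι F}, IsTv g a (c • B a) → IsTv g' a (c' • B a) →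
      IsTv (g * g') a ((c + c') • B a) := by
    intro c c' g g' h1 h2 x
    rw [ap_mul, h2, h1]
    simp only [LinearMap.smul_apply, map_add, map_smul, smul_eq_mul, ha, mul_zero, add_zero]
    module
  have htv_uni : ∀ {c : F} {g g' : GL ι F}, IsTv g a (c • B a) → IsTv g' a (c • B a) → g = g' := by
    intro c g g' h1 h2
    apply ap_ext
    intro x
    rw [h1, h2]
  have htvS : ∀ {c : F} {g : GL ι F}, c + σ c = 0 → IsTv g a (c • B a) → g ∈ SUn B := fun hc h =>
    TC_le_SUn hB (uc_TC Submodule.mem_top ha _ hc _ h)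
  have hinv : ∀ {c : F} {g : GL ι F}, IsTv g a (c • B a) → IsTv g⁻¹ a ((-c) • B a) := by
    intro c g h
    obtain ⟨g', hg'⟩ := exists_utv ha (-c)
    have h1 := htv_mul h hg'
    rw [add_neg_cancel] at h1
    have h2 : g * g' = 1 := by
      apply ap_ext
      intro x
      rw [h1, zero_smul, LinearMap.zero_apply, zero_smul, add_zero, ap_one]
    rw [← eq_inv_of_mul_eq_one_right h2]
    exact hg'
  let C : Subgroup (GL ι F) :=
    { carrier := {t | ∃ n ∈ N, ∃ (u : GL ι F) (c : F), c + σ c = 0 ∧ IsTv u a (c • B a) ∧ t = n * u}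
      mul_mem' := by
        rintro _ _ ⟨n, hn, u, c, hc, hu, rfl⟩ ⟨n', hn', u', c', hc', hu', rfl⟩
        refine ⟨n * (u * n' * u⁻¹), mul_mem hn (hNn _ (htvS hc hu) _ hn'), u * u', c + c',
          by rw [map_add]; linear_combination hc + hc', htv_mul hu hu', by group⟩
      one_mem' := ⟨1, one_mem _, 1, 0, by rw [map_zero, add_zero], by
        intro x; rw [zero_smul, LinearMap.zero_apply, zero_smul, add_zero, ap_one], by rw [mul_one]⟩
      inv_mem' := by
        rintro _ ⟨n, hn, u, c, hc, hu, rfl⟩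
        refine ⟨u⁻¹ * n⁻¹ * u⁻¹⁻¹, hNn _ (inv_mem (htvS hc hu)) _ (inv_mem hn), u⁻¹, -c,
          by rw [map_neg]; linear_combination -hc, hinv hu, by group⟩ }
  have hTC : SUn B ≤ C := by
    rw [hgen, TC_le_iff]
    intro b _ hb c hc t ht
    by_cases hb0 : b = 0
    · refine ⟨1, one_mem _, 1, 0, by rw [map_zero, add_zero], by
        intro x; rw [zero_smul, LinearMap.zero_apply, zero_smul, add_zero, ap_one], ?_⟩
      rw [mul_one]
      apply ap_ext
      intro x
      rw [ht, hb0, smul_zero, add_zero, ap_one]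
    obtain ⟨h, hh, l, hl, e⟩ := su_normal_trans hB h3 hNn hg (hNS hg).1 ha hga ha hb ha0 hb0
    have hhI := (hNS hh).1
    have hσl : σ l ≠ 0 := (map_ne_zero σ).2 hl
    obtain ⟨u, hu⟩ := exists_utv ha (c * (l * σ l)⁻¹)
    have hc' : c * (l * σ l)⁻¹ + σ (c * (l * σ l)⁻¹) = 0 := by
      rw [map_mul, map_inv₀, map_mul, hB.inv, mul_comm (σ l) l, ← add_mul, hc, zero_mul]
    have h1 : h * u * h⁻¹ = t := by
      apply ap_ext
      intro x
      rw [ap_mul, ap_mul, hu, ap_add, ap_smul, e, ap_ap_inv, ht]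
      congr 1
      have h2 : B a (ap h⁻¹ x) = σ l * B b x := by
        rw [← hhI, ap_ap_inv, e, LinearMap.map_smulₛₗ, LinearMap.smul_apply, smul_eq_mul]
      rw [LinearMap.smul_apply, LinearMap.smul_apply, h2, smul_smul, smul_eq_mul, smul_eq_mul]
      congr 1
      field_simp
    refine ⟨h * (u * h⁻¹ * u⁻¹), mul_mem hh (hNn _ (htvS hc' hu) _ (inv_mem hh)), u, _, hc', hu, ?_⟩
    rw [← h1]
    group
  refine (SUn_perfect hB h3 hgen).trans ?_
  rw [Subgroup.commutator_le]
  intro x hx y hy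
  obtain ⟨n1, hn1, u1, c1, hc1, hu1, rfl⟩ := hTC hx
  obtain ⟨n2, hn2, u2, c2, hc2, hu2, rfl⟩ := hTC hy
  have hc : u1 * u2 = u2 * u1 := by
    have h1 := htv_mul hu1 hu2
    have h2 := htv_mul hu2 hu1
    rw [add_comm] at h2
    exact htv_uni h1 h2
  have hu1T := htvS hc1 hu1
  have hu2T := htvS hc2 hu2
  rw [commutatorElement_def]
  have e : n1 * u1 * (n2 * u2) * (n1 * u1)⁻¹ * (n2 * u2)⁻¹ =
      n1 * (u1 * n2 * u1⁻¹) * (u2 * n1⁻¹ * u2⁻¹) * n2⁻¹ := by
    have e2 : u1 * u2 * u1⁻¹ = u2 := by rw [hc, mul_inv_cancel_right]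
    calc n1 * u1 * (n2 * u2) * (n1 * u1)⁻¹ * (n2 * u2)⁻¹ = n1 * (u1 * n2 * u1⁻¹) * ((u1 * u2 * u1⁻¹) * n1⁻¹ * u2⁻¹) * n2⁻¹ := by group
      _ = _ := by rw [e2]
  rw [e]
  exact mul_mem (mul_mem (mul_mem hn1 (hNn _ hu1T _ hn2)) (hNn _ hu2T _ (inv_mem hn1))) (inv_mem hn2)

/-- isometries fixing all isotropic points are scalar -/
theorem scalar_of_fix' (hB : Hm B) (h2 : 2 ≤ Fintype.card ι) {g : GL ι F} (hg : Isom B g)
    (h : ∀ a, B a a = 0 → ap g a ∈ Submodule.span F {a}) : ∃ c : F, ∀ v, ap g v = c • v := by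
  classical
  have h1 : ∀ a, ∃ c : F, B a a = 0 → ap g a = c • a := by
    intro a
    by_cases ha : B a a = 0
    · obtain ⟨c, hc⟩ := Submodule.mem_span_singleton.1 (h a ha)
      exact ⟨c, fun _ => hc.symm⟩
    · exact ⟨0, fun h => absurd h ha⟩
  choose c hc using h1
  have hT := nd_top hB
  have hdim : 2 ≤ finrank F (⊤ : Submodule F (ι → F)) := by rw [finrank_top, finrank_fintype_fun_eq_card]; exact h2
  obtain ⟨e, -, f, -, he, hf, hef⟩ := exists_hyp hB hT hdim
  have he0 : e ≠ 0 := by rintro rfl; rw [map_zero, LinearMap.zero_apply] at hef; exact one_ne_zero hef.symm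
  have key : ∀ x y, B x x = 0 → B y y = 0 → B x y ≠ 0 → c x = c y := by
    intro x y hx hy hxy
    obtain ⟨k, hk0, hk⟩ := hB.exists_tz
    obtain ⟨t, ht⟩ : ∃ t, t = k * (B x y)⁻¹ := ⟨_, rfl⟩
    have ht0 : t ≠ 0 := by rw [ht]; exact mul_ne_zero hk0 (inv_ne_zero hxy)
    have htk : t * B x y = k := by rw [ht, mul_assoc, inv_mul_cancel₀ hxy, mul_one]
    have hz : B (x + t • y) (x + t • y) = 0 := by
      simp only [map_add, LinearMap.add_apply, map_smul, LinearMap.map_smulₛₗ, LinearMap.smul_apply, smul_eq_mul, hx, hy,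
        mul_zero, add_zero, zero_add]
      have h5 : σ t * B y x = σ k := by rw [← htk, map_mul, hB.symm]
      rw [h5, htk, add_comm]
      exact hk
    have h4 := hc _ hz
    rw [ap_add, ap_smul, hc x hx, hc y hy] at h4
    have h5 : (c x - c (x + t • y)) • x = (t * (c (x + t • y) - c y)) • y := by
      have h6 : (c x - c (x + t • y)) • x - (t * (c (x + t • y) - c y)) • y =
        (c x • x + t • c y • y) - c (x + t • y) • (x + t • y) := by module
      rw [← sub_eq_zero, h6, h4, sub_self]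
    have h6 := congrArg (B x) h5
    rw [map_smul, map_smul, hx, smul_zero, smul_eq_mul] at h6
    have h7 : c (x + t • y) = c y := by
      rcases mul_eq_zero.1 h6.symm with h8 | h8
      · exact sub_eq_zero.1 ((mul_eq_zero.1 h8).resolve_left ht0)
      · exact absurd h8 hxy
    have h8 := congrArg (B y) h5
    rw [map_smul, map_smul, hy, smul_zero, smul_eq_mul] at h8
    have h9 : c x = c (x + t • y) := by
      rcases mul_eq_zero.1 h8 with h10 | h10
      · exact sub_eq_zero.1 h10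
      · exact absurd h10 (hB.ne_swap hxy)
    rw [h9, h7]
  have hall : ∀ x, B x x = 0 → x ≠ 0 → c x = c e := by
    intro x hx hx0
    by_cases hxe : B x e = 0
    · obtain ⟨z, hz, h1, h2⟩ := exists_both' hB hx he hxe hx0 he0
      rw [key x z hx hz h1, key z e hz he h2]
    · exact key x e hx he hxe
  refine ⟨c e, fun v => ?_⟩
  refine iso_induction hB hT hdim (fun v => ap g v = c e • v) ?_ ?_ (s := v) trivial
  · intro s _ hs
    by_cases hs0 : s = 0
    · rw [hs0, ap_zero, smul_zero]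
    · rw [hc s hs, hall s hs hs0]
  · intro s _ t _ hs ht
    rw [ap_add, hs, ht, smul_add]

theorem psu_simple {G : Type*} [Group G] (hB : Hm B) (h3 : 3 ≤ Fintype.card ι) (hgen : SUn B = TC B ⊤)
    (ψ : G →* GL ι F) (hψ : Function.Injective ψ) (hr : ψ.range = SUn B) : IsSimpleGroup (G ⧸ Subgroup.center G) := by
  have hmem : ∀ t ∈ SUn B, ∃ w : G, ψ w = t := by
    intro t ht
    rw [← hr] at ht
    exact ht
  have hmem' : ∀ w : G, ψ w ∈ SUn B := by
    intro w
    rw [← hr]
    exact ⟨w, rfl⟩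
  apply Orth.simple_quot
  · intro N hN
    by_cases hfix : ∀ w ∈ N, ∀ a, B a a = 0 → ap (ψ w) a ∈ Submodule.span F {a}
    · left
      intro w hw
      obtain ⟨c, hc⟩ := scalar_of_fix' hB (by omega) (hmem' w).1 (hfix w hw)
      rw [Subgroup.mem_center_iff]
      intro x
      apply hψ
      rw [map_mul, map_mul]
      apply ap_ext
      intro v
      rw [ap_mul, ap_mul, hc, hc, ap_smul]
    · right
      push Not at hfix
      obtain ⟨w, hw, a, ha, hwa⟩ := hfix
      have h1 : SUn B ≤ N.map ψ := by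
        refine su_normal hB h3 hgen ?_ ?_ (g := ψ w) ⟨w, hw, rfl⟩ ha hwa
        · rintro _ ⟨x, hx, rfl⟩
          exact hmem' x
        · rintro t ht _ ⟨x, hx, rfl⟩
          obtain ⟨s, rfl⟩ := hmem t ht
          exact ⟨s * x * s⁻¹, hN.conj_mem x hx s, by simp⟩
      rw [eq_top_iff]
      intro x _
      obtain ⟨y, hy, hyx⟩ := h1 (hmem' x)
      have : y = x := hψ hyx
      rwa [← this]
  · intro hctr
    have h1 : ⁅SUn B, SUn B⁆ ≤ ⊥ := by
      rw [Subgroup.commutator_le]
      intro x hx y hy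
      obtain ⟨x', rfl⟩ := hmem x hx
      obtain ⟨y', rfl⟩ := hmem y hy
      have h2 : x' ∈ Subgroup.center G := by rw [hctr]; trivial
      have h4 := congrArg ψ (Subgroup.mem_center_iff.1 h2 y')
      rw [map_mul, map_mul] at h4
      rw [Subgroup.mem_bot, commutatorElement_def, ← h4]
      group
    have h2 := (SUn_perfect hB h3 hgen).trans h1
    obtain ⟨e, -, f, -, he, hf, hef⟩ := exists_hyp hB (nd_top hB) (by rw [finrank_top, finrank_fintype_fun_eq_card]; omega)
    obtain ⟨k, hk0, hk⟩ := hB.exists_tz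
    obtain ⟨g, hg⟩ := exists_utv he k
    have h5 := h2 (TC_le_SUn hB (uc_TC Submodule.mem_top he k hk g hg))
    rw [Subgroup.mem_bot] at h5
    have h6 := hg f
    rw [h5, ap_one, LinearMap.smul_apply, hef, smul_eq_mul, mul_one] at h6
    have h7 : k • e = 0 := by
      have := congrArg (fun z => z - f) h6
      simpa using this.symm
    have he0 : e ≠ 0 := by rintro rfl; rw [map_zero, LinearMap.zero_apply] at hef; exact one_ne_zero hef.symm
    exact (smul_ne_zero hk0 he0) h7

end Cfsg.Agent.H7.UTv
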