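import Cfsg.Agent.H7.Uni2
import Cfsg.Agent.H7.HermStd
import Cfsg.Agent.H7.GU

set_option autoImplicit false
set_option linter.unusedSectionVars false

/-! The standard special unitary groups. -/

namespace Cfsg.Agent.H7.UTv

open Module Matrix Cfsg Cfsg.Agent.H7.Tv Cfsg.Agent.H7.Witt Cfsg.Agent.H7.Herm

variable {F : Type*} [Field F] [Fintype F] {q : ℕ}

/-- the embedding of `SU` in `GL` -/
def suE (n : ℕ) (F : Type*) [Field F] (q : ℕ) : SU n F q →* GL (Fin n) F :=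
  SpecialLinearGroup.toGL.comp (SU n F q).subtype

theorem suE_inj (n : ℕ) : Function.Injective (suE n F q) := fun _ _ h =>
  Subtype.ext (SpecialLinearGroup.toGL_injective h)

theorem ap_suE {n : ℕ} (g : SU n F q) (v : Fin n → F) :
    ap (suE n F q g) v = ((g : SpecialLinearGroup (Fin n) F) : Matrix (Fin n) (Fin n) F) *ᵥ v := rfl

theorem suE_range {n : ℕ} {σ : F →+* F}
    (hGU : ∀ g : GL (Fin n) F, g ∈ GU n F q ↔ Isom (hB n σ) g) : (suE n F q).range = SUn (hB n σ) := by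
  ext g
  constructor
  · rintro ⟨w, rfl⟩
    refine ⟨(hGU _).1 w.2, ?_⟩
    rw [mem_SL_iff]
    exact w.1.2
  · rintro ⟨h1, h2⟩
    have h3 := (hGU g).2 h1
    refine ⟨⟨⟨(g : Matrix (Fin n) (Fin n) F), (mem_SL_iff g).1 h2⟩, h3⟩, ?_⟩
    apply Units.ext
    rfl

theorem exists_fixed_ne_one (hF : Fintype.card F = q ^ 2) (hq : 3 ≤ q) : ∃ l : F, l ^ q = l ∧ l ≠ 0 ∧ l ≠ 1 := by
  classical
  obtain ⟨g, hg⟩ := IsCyclic.exists_generator (α := Fˣ)
  have ho : orderOf g = q ^ 2 - 1 := by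
    rw [orderOf_eq_card_of_forall_mem_zpowers hg, Nat.card_eq_fintype_card, Fintype.card_units, hF]
  refine ⟨((g ^ (q + 1) : Fˣ) : F), ?_, Units.ne_zero _, ?_⟩
  · rw [← Units.val_pow_eq_pow_val]
    congr 1
    rw [← pow_mul]
    have h1 : (q + 1) * q = (q ^ 2 - 1) + (q + 1) := by
      have : 1 ≤ q ^ 2 := Nat.one_le_pow _ _ (by omega)
      zify [this]
      ring
    rw [h1, pow_add, ← ho, pow_orderOf_eq_one, one_mul]
  · intro h
    have h1 : g ^ (q + 1) = 1 := Units.ext h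
    have h2 := orderOf_dvd_of_pow_eq_one h1
    rw [ho] at h2
    have h3 := Nat.le_of_dvd (by omega) h2
    have h4 : q + 1 < q ^ 2 - 1 := by
      have : q + 1 + 1 < q ^ 2 := by nlinarith
      omega
    omega

theorem gen_cond (hF : Fintype.card F = q ^ 2) {n : ℕ} {σ : F →+* F} (hσ : ∀ x, σ x = x ^ q) (hB : Hm (hB n σ))
    (h : 4 ≤ n ∨ (n = 3 ∧ 3 ≤ q)) : SUn (Herm.hB n σ) = TC (Herm.hB n σ) ⊤ := by
  apply SUn_eq_TC hB
  rw [Fintype.card_fin]
  rcases h with h | ⟨h, h'⟩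
  · exact Or.inl h
  · obtain ⟨l, h1, h2, h3⟩ := exists_fixed_ne_one hF h'
    exact Or.inr ⟨h, l, by rw [hσ, h1], h2, h3⟩

theorem utv_mulVec {n : ℕ} (v x : Fin n → F) (c : F) :
    unitaryTransvection n q v c *ᵥ x = x + (c * hermForm n F q x v) • v := by
  rw [unitaryTransvection, Matrix.add_mulVec, Matrix.one_mulVec, Matrix.smul_mulVec, Matrix.vecMulVec_mulVec]
  congr 1
  ext i
  simp only [Pi.smul_apply, smul_eq_mul, hermForm, dotProduct, MulOpposite.smul_eq_mul_unop, MulOpposite.unop_op]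
  rw [Finset.sum_congr rfl (fun j _ => mul_comm (v j ^ q) (x j))]
  ring

theorem utv_iff {n : ℕ} {σ : F →+* F} (hBq : ∀ u v, hB n σ u v = hermForm n F q v u) {g : GL (Fin n) F} {v : Fin n → F} {c : F} :
    (g : Matrix (Fin n) (Fin n) F) = unitaryTransvection n q v c ↔ IsTv g v (c • hB n σ v) := by
  constructor
  · intro h x
    rw [ap, h, utv_mulVec, LinearMap.smul_apply, hBq, smul_eq_mul]
  · intro h
    apply Matrix.ext_of_mulVec_single
    intro i
    rw [utv_mulVec]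
    exact (h _).trans (by rw [LinearMap.smul_apply, hBq, smul_eq_mul])

theorem utv_tr {n : ℕ} {σ : F →+* F} (hB : Hm (hB n σ)) {g : GL (Fin n) F} (hg : Isom (Herm.hB n σ) g) {v : Fin n → F}
    (hv0 : v ≠ 0) (hv : Herm.hB n σ v v = 0) {c : F} (h : IsTv g v (c • Herm.hB n σ v)) : c + σ c = 0 := by
  obtain ⟨f, -, hf, hvf⟩ := exists_partner hB (nd_top hB) Submodule.mem_top hv0 hv
  have hfv : Herm.hB n σ f v = 1 := by rw [← hB.symm, hvf, map_one]
  have h1 := hg f f
  rw [h, LinearMap.smul_apply, hvf] at h1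
  simp only [map_add, LinearMap.add_apply, map_smul, LinearMap.map_smulₛₗ, LinearMap.smul_apply, smul_eq_mul, hf, hv, hvf, hfv,
    mul_one, mul_zero, add_zero, zero_add] at h1
  linear_combination h1

end Cfsg.Agent.H7.UTv
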